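import Mathlib

/-!
# A transfer lemma

If `w ↦ w ^ q` is multiplicative on a Sylow `p`-subgroup `P` of `H`, with values in the centre of `H`, and not
trivial, then `H` is not perfect.
-/

set_option autoImplicit false

namespace Cfsg.Agent.Omega.Sec.Transfer

open Subgroup MonoidHom MulAction

open scoped IsMulCommutative in
theorem not_perfect {H : Type*} [Group H] [Finite H] {p : ℕ} [Fact p.Prime] (P : Sylow p H) (q : ℕ)
    (hmul : ∀ v ∈ P, ∀ w ∈ P, (v * w) ^ q = v ^ q * w ^ q)
    (hval : ∀ w ∈ P, w ^ q ∈ center H) {u : H} (huP : u ∈ P) (hu : u ^ q ≠ 1) :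
    commutator H ≠ ⊤ := by
  classical
  intro hperf
  let φ : ↥(P : Subgroup H) →* ↥(center H) :=
    { toFun := fun w => ⟨(w : H) ^ q, hval w w.2⟩
      map_one' := Subtype.ext (one_pow q)
      map_mul' := fun v w => Subtype.ext (hmul v v.2 w w.2) }
  let V := transfer φ
  -- the transfer is trivial
  have h1 : V u = 1 := by
    have h2 : commutator H ≤ V.ker := Abelianization.commutator_subset_ker V
    rw [hperf] at h2
    exact h2 (mem_top u)
  -- compute the transfer
  let _ : Fintype (Quotient (orbitRel (zpowers u) (H ⧸ (P : Subgroup H)))) := Fintype.ofFinite _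
  have h3 : V u = ⟨u ^ q, hval u huP⟩ ^ (P : Subgroup H).index := by
    have h4 : V u = _ := transfer_eq_prod_quotient_orbitRel_zpowers_quot φ u
    rw [h4, index_eq_sum_minimalPeriod (P : Subgroup H) u, ← Finset.prod_pow_eq_pow_sum]
    refine Finset.prod_congr rfl fun x _ => ?_
    apply Subtype.ext
    change (x.out.out⁻¹ * u ^ Function.minimalPeriod (u • ·) x.out * x.out.out) ^ q =
      (u ^ q) ^ Function.minimalPeriod (u • ·) x.out
    have h5 : x.out.out⁻¹ * u ^ Function.minimalPeriod (u • ·) x.out * x.out.out =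
        x.out.out⁻¹ * u ^ Function.minimalPeriod (u • ·) x.out * (x.out.out⁻¹)⁻¹ := by rw [inv_inv]
    rw [h5, conj_pow, ← pow_mul, mul_comm (Function.minimalPeriod (u • ·) x.out) q, pow_mul]
    have h6 : (u ^ q) ^ Function.minimalPeriod (u • ·) x.out ∈ center H :=
      pow_mem (hval u huP) _
    rw [(mem_center_iff.mp h6) (x.out.out⁻¹), mul_inv_cancel_right]
  rw [h3] at h1
  have h7 : (u ^ q) ^ (P : Subgroup H).index = 1 := congrArg Subtype.val h1
  have h8 : orderOf (u ^ q) ∣ (P : Subgroup H).index := orderOf_dvd_of_pow_eq_one h7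
  obtain ⟨k, hk⟩ := (P.2 ⟨u, huP⟩ : ∃ k, (⟨u, huP⟩ : ↥(P : Subgroup H)) ^ p ^ k = 1)
  have hk' : u ^ p ^ k = 1 := congrArg Subtype.val hk
  have h9 : orderOf (u ^ q) ∣ p ^ k := orderOf_dvd_of_pow_eq_one (by
    rw [← pow_mul, mul_comm, pow_mul, hk', one_pow])
  have h10 : (P : Subgroup H).index.Coprime (p ^ k) :=
    Nat.Coprime.pow_right k ((Nat.Prime.coprime_iff_not_dvd Fact.out).mpr P.not_dvd_index).symm
  exact hu (orderOf_eq_one_iff.mp (Nat.eq_one_of_dvd_coprimes h10 h8 h9))

end Cfsg.Agent.Omega.Sec.Transfer
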