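import Cfsg.Agent.Omega.Sec.Config
import Cfsg.Agent.Omega.Sec.Transfer

/-!
# Central extensions: the rank of the quotient

`H` perfect, `N` a central `p`-subgroup, `p` odd, `m_p(H) ≤ 2`. Then `m_p(H/N) ≤ 2`.
-/

set_option autoImplicit false

namespace Cfsg.Agent.Omega.Sec.Central

open Subgroup Cfsg Cfsg.Agent.Omega.Sec.Basic

universe u

theorem prankLE_subgroup {G : Type*} [Group G] {p k : ℕ} (h : PRankLE p k G) (H : Subgroup G) :
    PRankLE p k H := by
  intro A hA hp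
  have hc := comm_of hA
  have h1 := h (A.map H.subtype) (isComm_of (by
    rintro _ ⟨x, hx, rfl⟩ _ ⟨y, hy, rfl⟩
    change (x : G) * y = y * x
    rw [← Subgroup.coe_mul, ← Subgroup.coe_mul, hc x hx y hy])) (by
    rintro _ ⟨x, hx, rfl⟩
    change (x : G) ^ p = 1
    rw [← Subgroup.coe_pow, hp x hx, Subgroup.coe_one])
  rwa [Subgroup.card_map_of_injective H.subtype_injective] at h1

/-- **Theorem SEC, central case.** -/
theorem main {H : Type u} [Group H] [Finite H] {p : ℕ} [Fact p.Prime] (hp : p ≠ 2)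
    (hr : PRankLE p 2 H) (hperf : commutator H = ⊤) (N : Subgroup H) [N.Normal] (hN : IsPGroup p N)
    (hNc : N ≤ center H) : PRankLE p 2 (H ⧸ N) := by
  have hpr : p.Prime := Fact.out
  have hp1 := hpr.one_lt
  intro A' hA' hAp
  by_contra hlt
  push Not at hlt
  have hcA := comm_of hA'
  -- `|A'| ≥ p ^ 3`
  have hA'P : IsPGroup p A' := fun x => ⟨1, Subtype.ext (by rw [pow_one]; exact hAp x x.2)⟩
  obtain ⟨n, hn⟩ := IsPGroup.iff_card.mp hA'P
  have hcard3 : p ^ 3 ≤ Nat.card A' := by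
    rw [hn] at hlt ⊢
    exact Nat.pow_le_pow_right hpr.pos ((Nat.pow_lt_pow_iff_right hp1).mp hlt)
  -- `E`
  let π := QuotientGroup.mk' N
  set E : Subgroup H := A'.comap π with hE
  have hNE : N ≤ E := by
    intro x hx
    rw [hE, mem_comap]
    have : π x = 1 := (QuotientGroup.eq_one_iff _).mpr hx
    rw [this]; exact one_mem _
  have hEcard : Nat.card E = Nat.card N * Nat.card A' := by
    let f : ↥E →* ↥A' := (π.comp E.subtype).codRestrict A' (fun x => x.2)
    have hf : Function.Surjective f := by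
      rintro ⟨x, hx⟩
      obtain ⟨y, rfl⟩ := QuotientGroup.mk'_surjective N x
      exact ⟨⟨y, hx⟩, rfl⟩
    have h1 : f.ker = N.subgroupOf E := by
      ext x
      rw [MonoidHom.mem_ker, mem_subgroupOf]
      constructor
      · intro h
        have h2 : π (x : H) = 1 := congrArg Subtype.val h
        exact (QuotientGroup.eq_one_iff _).mp h2
      · intro h
        apply Subtype.ext
        exact (QuotientGroup.eq_one_iff _).mpr h
    rw [card_eq_card_quotient_mul_card_subgroup f.ker,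
      Nat.card_congr (QuotientGroup.quotientKerEquivOfSurjective f hf).toEquiv, h1,
      Nat.card_congr (subgroupOfEquivOfLe hNE).toEquiv, mul_comm]
  have hcen : ∀ n ∈ N, ∀ g, Commute n g := fun n hn g => ((mem_center_iff.mp (hNc hn)) g).symm
  have hEc : ∀ x ∈ E, ∀ y ∈ E, x * y * x⁻¹ * y⁻¹ ∈ N := by
    intro x hx y hy
    have h1 : π (x * y * x⁻¹ * y⁻¹) = 1 := by
      rw [map_mul, map_mul, map_mul, map_inv, map_inv, hcA _ hx _ hy]
      group
    exact (QuotientGroup.eq_one_iff _).mp h1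
  have hEp : ∀ x ∈ E, x ^ p ∈ N := by
    intro x hx
    have h1 : π (x ^ p) = 1 := by rw [map_pow]; exact hAp _ hx
    exact (QuotientGroup.eq_one_iff _).mp h1
  have hEcp : ∀ x ∈ E, ∀ y ∈ E, (x * y * x⁻¹ * y⁻¹) ^ p = 1 := by
    intro x hx y hy
    have h1 : y * x⁻¹ * y⁻¹ = x⁻¹ * (x * y * x⁻¹ * y⁻¹) := by group
    have h2 : Commute x⁻¹ (x * y * x⁻¹ * y⁻¹) := (hcen _ (hEc x hx y hy) _).symm
    have h3 : (y * x⁻¹ * y⁻¹) ^ p = x⁻¹ ^ p * (x * y * x⁻¹ * y⁻¹) ^ p := by rw [h1, h2.mul_pow]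
    rw [conj_pow] at h3
    have h4 : Commute (x⁻¹ ^ p) y := by
      rw [inv_pow]
      exact (hcen _ (inv_mem (hEp x hx)) y)
    rw [← h4.eq, mul_inv_cancel_right] at h3
    have h5 : x⁻¹ ^ p * (x * y * x⁻¹ * y⁻¹) ^ p = x⁻¹ ^ p * 1 := by rw [mul_one]; exact h3.symm
    exact mul_left_cancel h5
  have hmul : ∀ x ∈ E, ∀ y ∈ E, (x * y) ^ p = x ^ p * y ^ p := by
    intro x hx y hy
    exact Cfsg.Agent.Lib.MaxNormalElementary.mul_pow_of_central hpr hp
      (show x * y = (x * y * x⁻¹ * y⁻¹) * (y * x) by group) (hcen _ (hEc x hx y hy) x)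
      (hcen _ (hEc x hx y hy) y) (hEcp x hx y hy)
  -- `Om`
  let Om : Subgroup H :=
    { carrier := {x | x ∈ E ∧ x ^ p = 1}
      one_mem' := ⟨one_mem _, one_pow p⟩
      mul_mem' := by
        rintro x y ⟨hx, hxp⟩ ⟨hy, hyp⟩
        exact ⟨mul_mem hx hy, by rw [hmul x hx y hy, hxp, hyp, one_mul]⟩
      inv_mem' := by
        rintro x ⟨hx, hxp⟩
        exact ⟨inv_mem hx, by rw [inv_pow, hxp, inv_one]⟩ }
  have hOmE : Om ≤ E := fun x hx => hx.1
  have hOmp : ∀ x ∈ Om, x ^ p = 1 := fun x hx => hx.2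
  have hOmcard : p ^ 3 ≤ Nat.card Om := by
    refine hcard3.trans ?_
    let φ : ↥E →* ↥N :=
      { toFun := fun x => ⟨(x : H) ^ p, hEp x x.2⟩
        map_one' := Subtype.ext (one_pow p)
        map_mul' := fun x y => Subtype.ext (hmul x x.2 y y.2) }
    have h1 : Nat.card ↥E = Nat.card (↥E ⧸ φ.ker) * Nat.card φ.ker :=
      card_eq_card_quotient_mul_card_subgroup _
    have h2 : Nat.card (↥E ⧸ φ.ker) ≤ Nat.card N := by
      rw [Nat.card_congr (QuotientGroup.quotientKerEquivRange φ).toEquiv]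
      exact card_le_card_group _
    have h3 : Nat.card φ.ker ≤ Nat.card Om := by
      apply Nat.card_le_card_of_injective
        (fun x : φ.ker => (⟨((x : ↥E) : H), (x : ↥E).2, by
          have h4 : φ x = 1 := x.2
          exact congrArg Subtype.val h4⟩ : ↥Om))
      intro x y hxy
      apply Subtype.ext
      apply Subtype.ext
      exact congrArg (fun t : ↥Om => (t : H)) hxy
    rw [hEcard] at h1
    have h5 : Nat.card N * Nat.card A' ≤ Nat.card N * Nat.card Om := by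
      rw [h1]; exact Nat.mul_le_mul h2 h3
    exact Nat.le_of_mul_le_mul_left h5 Nat.card_pos
  -- two noncommuting elements
  obtain ⟨x₁, hx₁, x₂, hx₂, h12⟩ : ∃ x₁ ∈ Om, ∃ x₂ ∈ Om, x₁ * x₂ ≠ x₂ * x₁ := by
    by_contra hcon
    push Not at hcon
    have h1 := hr Om (isComm_of hcon) hOmp
    have h2 := Nat.pow_lt_pow_right hp1 (show 2 < 3 by norm_num)
    omega
  obtain ⟨z, hz⟩ : ∃ z, z = x₁ * x₂ * x₁⁻¹ * x₂⁻¹ := ⟨_, rfl⟩
  have hzN : z ∈ N := hz ▸ hEc x₁ (hOmE hx₁) x₂ (hOmE hx₂)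
  have hzp : z ^ p = 1 := hz ▸ hEcp x₁ (hOmE hx₁) x₂ (hOmE hx₂)
  have hz1 : z ≠ 1 := by
    intro h
    apply h12
    calc x₁ * x₂ = (x₁ * x₂ * x₁⁻¹ * x₂⁻¹) * (x₂ * x₁) := by group
      _ = x₂ * x₁ := by rw [← hz, h, one_mul]
  have hzc : ∀ g, z * g = g * z := fun g => (hcen z hzN g).eq
  -- elements of order `p` of `N`
  have hNz : ∀ y ∈ N, y ^ p = 1 → y ∈ zpowers z := by
    intro y hy hyp
    have hx1z : x₁ ∉ zpowers z := by
      intro h
      have h1 : x₁ ∈ N := (zpowers_le.mpr hzN : zpowers z ≤ N) h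
      exact h12 (hcen x₁ h1 x₂).eq
    obtain ⟨h1, h2, h3⟩ := card_pair hzp hz1 (hOmp x₁ hx₁) (hzc x₁) hx1z
    have h4 : y ∈ closure ({z, x₁} : Set H) :=
      mem_of_rank hr h1 h2 h3 (fun a _ => (hcen y hy a).eq) hyp
    by_contra hyz
    -- then `closure {z, y}` is everything
    obtain ⟨h5, h6, h7⟩ := card_pair hzp hz1 hyp (hzc y) hyz
    have h8 : closure ({z, y} : Set H) ≤ closure ({z, x₁} : Set H) := by
      rw [closure_le]
      rintro w (rfl | hw)
      · exact subset_closure (by simp)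
      · rw [Set.mem_singleton_iff.mp hw]; exact h4
    have h9 : closure ({z, y} : Set H) = closure ({z, x₁} : Set H) :=
      eq_of_le_of_card_ge h8 ((hr _ (isComm_of h1) h2).trans h7)
    have h10 : x₁ ∈ closure ({z, y} : Set H) := by rw [h9]; exact subset_closure (by simp)
    have h11 : closure ({z, y} : Set H) ≤ N := by
      rw [closure_le]
      rintro w (rfl | hw)
      · exact hzN
      · rw [Set.mem_singleton_iff.mp hw]; exact hy
    exact h12 (hcen x₁ (h11 h10) x₂).eq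
  -- the Sylow subgroup
  have hEP : IsPGroup p E := by
    intro x
    obtain ⟨k, hk⟩ := hN ⟨(x : H) ^ p, hEp x x.2⟩
    refine ⟨k + 1, Subtype.ext ?_⟩
    have h1 : ((x : H) ^ p) ^ p ^ k = 1 := congrArg Subtype.val hk
    change (x : H) ^ p ^ (k + 1) = 1
    rw [pow_succ', pow_mul, h1]
  obtain ⟨P, hP⟩ := hEP.exists_le_sylow
  have hOmP : Om ≤ P := hOmE.trans hP
  have hzP : z ∈ (P : Subgroup H) := hP (hNE hzN)
  have hE4 : p ^ 4 ≤ Nat.card E := by
    have h1 : p ≤ Nat.card N := by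
      have h2 : orderOf z ∣ Nat.card N := by
        rw [← Subgroup.orderOf_mk z hzN]; exact orderOf_dvd_natCard _
      rw [orderOf_eq_prime hzp hz1] at h2
      exact Nat.le_of_dvd Nat.card_pos h2
    rw [hEcard]
    calc p ^ 4 = p * p ^ 3 := by ring
      _ ≤ _ := Nat.mul_le_mul h1 hcard3
  obtain ⟨a, m, A, C⟩ := Config.exists_cfg (P := ↥(P : Subgroup H)) hp P.2
    (prankLE_subgroup hr _) (z := ⟨z, hzP⟩) (fun g => Subtype.ext (hzc g))
    (fun h => hz1 (congrArg Subtype.val h)) (Subtype.ext hzp) (E.subgroupOf P) (Om.subgroupOf P)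
    (fun x hx => hOmE hx) (by
      intro x hx y hy
      have h1 := hNz _ (hEc x hx y hy) (hEcp x hx y hy)
      obtain ⟨k, hk⟩ := mem_zpowers_iff.mp h1
      exact mem_zpowers_iff.mpr ⟨k, Subtype.ext hk⟩)
    (fun x hx => Subtype.ext (hOmp x hx))
    (by rw [Nat.card_congr (subgroupOfEquivOfLe hOmP).toEquiv]; exact hOmcard)
    (by rw [Nat.card_congr (subgroupOfEquivOfLe hP).toEquiv]; exact hE4)
  obtain ⟨q, u, h1, h2, h3⟩ := C.main
  refine Transfer.not_perfect P q (u := (u : H)) ?_ ?_ u.2 ?_ hperf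
  · intro v hv w hw
    exact congrArg Subtype.val (h1 ⟨v, hv⟩ ⟨w, hw⟩)
  · intro w hw
    have h4 := h2 ⟨w, hw⟩
    obtain ⟨k, hk⟩ := mem_zpowers_iff.mp h4
    have h5 : z ^ k = w ^ q := congrArg Subtype.val hk
    rw [← h5]
    exact zpow_mem (hNc hzN) k
  · intro h
    exact h3 (Subtype.ext h)

end Cfsg.Agent.Omega.Sec.Central
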