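import Cfsg.Agent.Omega.Sec.Main
import Cfsg.Agent.Omega.Sec.Central

/-!
# Theorem SEC

Simple sections of groups of `p`-rank at most 2, `p` odd, have `p`-rank at most 2 (input: the odd order theorem).
-/

set_option autoImplicit false

namespace Cfsg.Agent.Omega.Sec.Final

universe u

/-- **Theorem SEC.** -/
theorem sec (hFT : Main.OddOrd.{u}) : Quasithin.Sec.{u} :=
  Main.sec_of hFT (fun _ _ _ _ _ hp hr hperf N _ hN hNc => Central.main hp hr hperf N hN hNc)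

/-- **S1731** from `SQT`, S1765, `RankFour` and the table. -/
theorem s1731 (hFT : Main.OddOrd.{u}) (hO : Assembly.OddLit.{u}) (hR : Assembly.RankFour.{u})
    (hS : Quasithin.SQT.{u}) (R : Quasithin.Rows.{u}) {G : Type u} [Group G] [Finite G]
    [IsSimpleGroup G] (hG : ¬ IsMulCommutative G)
    (hq : ∀ p : ℕ, p.Prime → p ≠ 2 → Cfsg.PRankLE p 2 G) (hE : ¬ Cfsg.IsOfEvenCharacteristic G) :
    Nonempty (G ≃* alternatingGroup (Fin 7)) ∨ Cfsg.Spor.IsoJ1 G ∨
      ∃ p : ℕ, p.Prime ∧ 5 ≤ p ∧ ∃ (F : Type) (_ : Field F) (_ : Fintype F),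
        ((Fintype.card F = p ∨ Fintype.card F = p ^ 2) ∧ Nonempty (G ≃* Matrix.ProjectiveSpecialLinearGroup (Fin 2) F)) ∨
        (Fintype.card F = p ∧ Nonempty (G ≃* Matrix.ProjectiveSpecialLinearGroup (Fin 3) F)) ∨
        (Fintype.card F = p ^ 2 ∧ Nonempty (G ≃* Cfsg.PSU 3 F p)) :=
  Quasithin.s1731 hO hR hS (sec hFT) R hG hq hE

end Cfsg.Agent.Omega.Sec.Final
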