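import Cfsg.Agent.Omega.Sec.Faithful

/-!
# Theorem SEC: reduction to the central case

If the conclusion `m_p(H ⧸ N) ≤ 2` holds for every perfect `H` of `p`-rank at most 2 with a central
`p`-subgroup `N` (`H ⧸ N` simple nonabelian), it holds for every `H` of `p`-rank at most 2 and every
normal subgroup `N` with `H ⧸ N` simple nonabelian (minimal counterexample: `N` lies in the Frattini
subgroup, so `N` is a `p`-group, and `C_H(N) ≤ N` is excluded by `Faithful.main`).
-/

set_option autoImplicit false

namespace Cfsg.Agent.Omega.Sec.Reduce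

open Subgroup
open scoped commutatorElement

universe u

theorem prankLE_of_injective {G H : Type*} [Group G] [Group H] {p k : ℕ} (f : G →* H)
    (hf : Function.Injective f) (h : PRankLE p k H) : PRankLE p k G := by
  intro A hA hp
  have hc : ∀ a ∈ A, ∀ b ∈ A, a * b = b * a := fun a ha b hb => by
    have := hA.is_comm.comm (⟨a, ha⟩ : A) ⟨b, hb⟩
    exact congrArg Subtype.val this
  have h1 := h (A.map f) ⟨⟨by
    rintro ⟨_, x, hx, rfl⟩ ⟨_, y, hy, rfl⟩
    apply Subtype.ext
    change f x * f y = f y * f x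
    rw [← map_mul, ← map_mul, hc x hx y hy]⟩⟩ (by
    rintro _ ⟨x, hx, rfl⟩
    rw [← map_pow, hp x hx, map_one])
  rwa [Subgroup.card_map_of_injective hf] at h1

theorem prankLE_congr {G H : Type*} [Group G] [Group H] {p k : ℕ} (e : G ≃* H)
    (h : PRankLE p k G) : PRankLE p k H :=
  prankLE_of_injective e.symm.toMonoidHom e.symm.injective h

/-- The `p`-rank does not grow modulo a normal `p'`-subgroup. -/
theorem prankLE_quotient {H : Type*} [Group H] [Finite H] {p k : ℕ} [hpf : Fact p.Prime]
    (Q : Subgroup H) [Q.Normal] (hQ : (Nat.card Q).Coprime p) (h : PRankLE p k H) :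
    PRankLE p k (H ⧸ Q) := by
  intro A hA hp
  set B : Subgroup H := A.comap (QuotientGroup.mk' Q) with hB
  obtain ⟨P0⟩ : Nonempty (Sylow p B) := inferInstance
  set P : Subgroup H := (P0 : Subgroup B).map B.subtype with hP
  have hPp : IsPGroup p P := P0.isPGroup'.map _
  have hPB : P ≤ B := map_subtype_le _
  -- `P ∩ Q = 1`
  have hPQ : ∀ x ∈ P, x ∈ Q → x = 1 := by
    intro x hx hxQ
    obtain ⟨j, hj⟩ := hPp ⟨x, hx⟩
    have h1 : x ^ p ^ j = 1 := congrArg Subtype.val hj
    have h2 : x ^ Nat.card Q = 1 := congrArg Subtype.val (pow_card_eq_one' (x := (⟨x, hxQ⟩ : Q)))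
    have h3 : orderOf x ∣ 1 := by
      have h4 : (Nat.card Q).Coprime (p ^ j) := Nat.Coprime.pow_right j hQ
      rw [← h4]
      exact Nat.dvd_gcd (orderOf_dvd_of_pow_eq_one h2) (orderOf_dvd_of_pow_eq_one h1)
    exact orderOf_eq_one_iff.mp (Nat.dvd_one.mp h3)
  have hA' : ∀ x ∈ P, (QuotientGroup.mk' Q) x ∈ A := fun x hx => hPB hx
  have hcomm : ∀ x ∈ P, ∀ y ∈ P, x * y = y * x := by
    intro x hx y hy
    have h1 : x * y * (y * x)⁻¹ = 1 := by
      refine hPQ _ (P.mul_mem (P.mul_mem hx hy) (P.inv_mem (P.mul_mem hy hx))) ?_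
      rw [← QuotientGroup.eq_one_iff]
      have h2 := congrArg Subtype.val (hA.is_comm.comm (⟨_, hA' x hx⟩ : A) ⟨_, hA' y hy⟩)
      have h3 : (QuotientGroup.mk' Q) x * (QuotientGroup.mk' Q) y =
          (QuotientGroup.mk' Q) y * (QuotientGroup.mk' Q) x := h2
      have h4 : (QuotientGroup.mk' Q) (x * y * (y * x)⁻¹) = 1 := by
        rw [map_mul, map_inv, map_mul, map_mul, h3, mul_inv_cancel]
      exact h4
    exact mul_inv_eq_one.mp h1
  have hexp : ∀ x ∈ P, x ^ p = 1 := by
    intro x hx
    refine hPQ _ (P.pow_mem hx p) ?_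
    rw [← QuotientGroup.eq_one_iff]
    have h1 := hp _ (hA' x hx)
    rw [← map_pow] at h1
    exact h1
  have h1 : Nat.card P ≤ p ^ k := h P ⟨⟨fun x y => Subtype.ext (hcomm x x.2 y y.2)⟩⟩ hexp
  refine le_trans ?_ h1
  -- `|A|` divides `|P|`
  have hAp : IsPGroup p A := fun x => ⟨1, Subtype.ext (by rw [pow_one]; exact hp x x.2)⟩
  obtain ⟨n, hn⟩ := IsPGroup.iff_card.mp hAp
  have h2 : Nat.card A ∣ Nat.card B := by
    have h3 : (B.map (QuotientGroup.mk' Q)) = A :=
      map_comap_eq_self_of_surjective (QuotientGroup.mk'_surjective Q) A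
    have h4 : Nat.card (B.map (QuotientGroup.mk' Q)) ∣ Nat.card B := by
      let f : B →* B.map (QuotientGroup.mk' Q) := (QuotientGroup.mk' Q).subgroupMap B
      exact card_dvd_of_surjective f ((QuotientGroup.mk' Q).subgroupMap_surjective B)
    rwa [h3] at h4
  rw [hn] at h2 ⊢
  have h5 : p ^ n ∣ Nat.card (P0 : Subgroup B) := P0.pow_dvd_card_of_pow_dvd_card h2
  have h6 : Nat.card P = Nat.card (P0 : Subgroup B) := by
    rw [hP, card_map_of_injective B.subtype_injective]
  rw [h6]
  exact Nat.le_of_dvd Nat.card_pos h5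

/-- `K ≤ N` or `K N = H` for normal `K`, if `H ⧸ N` is simple. -/
theorem le_or_sup_eq_top {H : Type*} [Group H] (K N : Subgroup H) [K.Normal] [N.Normal]
    (hs : IsSimpleGroup (H ⧸ N)) : K ≤ N ∨ K ⊔ N = ⊤ := by
  have h1 : (K.map (QuotientGroup.mk' N)).Normal :=
    Subgroup.Normal.map inferInstance _ (QuotientGroup.mk'_surjective N)
  rcases h1.eq_bot_or_eq_top with h2 | h2
  · left
    rw [Subgroup.map_eq_bot_iff, QuotientGroup.ker_mk'] at h2
    exact h2
  · right
    have h3 := congrArg (Subgroup.comap (QuotientGroup.mk' N)) h2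
    rwa [comap_map_eq, QuotientGroup.ker_mk', comap_top] at h3

theorem not_isMulCommutative_congr {G H : Type*} [Group G] [Group H] (e : G ≃* H)
    (h : ¬ IsMulCommutative H) : ¬ IsMulCommutative G := by
  intro hc
  refine h ⟨⟨fun a b => e.symm.injective ?_⟩⟩
  rw [map_mul, map_mul]
  exact hc.is_comm.comm _ _

/-- **Theorem SEC from its central case** (`hFT`: the odd order theorem). -/
theorem reduce (hFT : ∀ (X : Type u) [Group X] [Finite X], Odd (Nat.card X) → Group.IsSolvable X)
    {p : ℕ} [hpf : Fact p.Prime] (hp : p ≠ 2)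
    (hcentral : ∀ (H : Type u) [Group H] [Finite H] (N : Subgroup H) [N.Normal], PRankLE p 2 H →
      commutator H = ⊤ → IsPGroup p N → N ≤ center H → IsSimpleGroup (H ⧸ N) →
      ¬ IsMulCommutative (H ⧸ N) → PRankLE p 2 (H ⧸ N)) :
    ∀ (n : ℕ) (H : Type u) [Group H] [Finite H] (N : Subgroup H) [N.Normal], Nat.card H = n →
      PRankLE p 2 H → IsSimpleGroup (H ⧸ N) → ¬ IsMulCommutative (H ⧸ N) →
      PRankLE p 2 (H ⧸ N) := by
  intro n
  induction n using Nat.strong_induction_on with
  | _ n ih =>
    intro H _ _ N hNn hcard hr hs hna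
    by_contra hcon
    -- `N` lies in the Frattini subgroup
    have hfr : ∀ K : Subgroup H, K ⊔ N = ⊤ → K = ⊤ := by
      intro K hK
      by_contra hKt
      let f : K →* H ⧸ N := (QuotientGroup.mk' N).comp K.subtype
      have hf : Function.Surjective f := by
        intro y
        obtain ⟨x, rfl⟩ := QuotientGroup.mk_surjective y
        have hx : x ∈ K ⊔ N := by rw [hK]; exact mem_top x
        rw [mem_sup_of_normal_right] at hx
        obtain ⟨a, ha, b, hb, rfl⟩ := hx
        refine ⟨⟨a, ha⟩, ?_⟩
        change (a : H ⧸ N) = ((a * b : H) : H ⧸ N)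
        rw [QuotientGroup.eq]
        have : a⁻¹ * (a * b) = b := by group
        rw [this]
        exact hb
      let e : K ⧸ f.ker ≃* H ⧸ N := QuotientGroup.quotientKerEquivOfSurjective f hf
      have h1 : Nat.card K < n := by
        rw [← hcard]
        refine lt_of_le_of_ne (Subgroup.card_le_card_group K) fun h => hKt ?_
        exact Subgroup.eq_top_of_card_eq K h
      have h2 : IsSimpleGroup (K ⧸ f.ker) := e.isSimpleGroup_congr.mpr hs
      exact hcon (prankLE_congr e (ih _ h1 K f.ker rfl
        (prankLE_of_injective K.subtype K.subtype_injective hr) h2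
        (not_isMulCommutative_congr e hna)))
    -- `H` is perfect
    have hperf : commutator H = ⊤ := by
      rcases le_or_sup_eq_top (commutator H) N hs with h1 | h1
      · exfalso
        refine hna ⟨⟨fun a b => ?_⟩⟩
        obtain ⟨x, rfl⟩ := QuotientGroup.mk_surjective a
        obtain ⟨y, rfl⟩ := QuotientGroup.mk_surjective b
        have h2 : ⁅x, y⁆ ∈ N := h1 (commutator_mem_commutator (mem_top x) (mem_top y))
        have h3 : ⁅(x : H ⧸ N), (y : H ⧸ N)⁆ = 1 := (QuotientGroup.eq_one_iff _).mpr h2
        exact commutatorElement_eq_one_iff_mul_comm.mp h3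
      · exact hfr _ h1
    -- `N` is a `p`-group
    have hNp : IsPGroup p N := by
      have key : ∀ q : ℕ, q.Prime → q ∣ Nat.card N → q = p := by
        intro q hq hdvd
        by_contra hqp
        have : Fact q.Prime := ⟨hq⟩
        obtain ⟨P⟩ : Nonempty (Sylow q N) := inferInstance
        set Q : Subgroup H := (P : Subgroup N).map N.subtype with hQ
        have h1 : normalizer (Q : Set H) = ⊤ := hfr _ (Sylow.normalizer_sup_eq_top P)
        have hQn : Q.Normal := normalizer_eq_top_iff.mp h1
        have hQN : Q ≤ N := map_subtype_le _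
        have hQc : Nat.card Q = Nat.card (P : Subgroup N) := by
          rw [hQ, card_map_of_injective N.subtype_injective]
        have hPd : q ∣ Nat.card (P : Subgroup N) := by
          have := P.pow_dvd_card_of_pow_dvd_card (n := 1) (by rwa [pow_one])
          rwa [pow_one] at this
        have hcop : (Nat.card Q).Coprime p := by
          obtain ⟨k, hk⟩ := IsPGroup.iff_card.mp P.isPGroup'
          rw [hQc, hk]
          exact Nat.Coprime.pow_left k ((Nat.coprime_primes hq hpf.out).mpr hqp)
        have h2 := prankLE_quotient Q hcop hr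
        have hN' : (N.map (QuotientGroup.mk' Q)).Normal :=
          Subgroup.Normal.map hNn _ (QuotientGroup.mk'_surjective Q)
        let e : (H ⧸ Q) ⧸ N.map (QuotientGroup.mk' Q) ≃* H ⧸ N :=
          QuotientGroup.quotientQuotientEquivQuotient Q N hQN
        have h3 : Nat.card (H ⧸ Q) < n := by
          rw [← hcard, Subgroup.card_eq_card_quotient_mul_card_subgroup Q]
          have h4 : 1 < Nat.card Q := by
            rw [hQc]
            exact lt_of_lt_of_le hq.one_lt (Nat.le_of_dvd Nat.card_pos hPd)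
          exact lt_mul_of_one_lt_right Nat.card_pos h4
        have h5 : IsSimpleGroup ((H ⧸ Q) ⧸ N.map (QuotientGroup.mk' Q)) :=
          e.isSimpleGroup_congr.mpr hs
        exact hcon (prankLE_congr e (ih _ h3 (H ⧸ Q) _ rfl h2 h5
          (not_isMulCommutative_congr e hna)))
      have h1 := Nat.eq_prime_pow_of_unique_prime_dvd (n := Nat.card N) (p := p)
        Nat.card_pos.ne' (fun {d} hd hd2 => key d hd hd2)
      exact IsPGroup.of_card h1
    -- the centralizer of `N`
    rcases le_or_sup_eq_top (centralizer (N : Set H)) N hs with h1 | h1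
    · refine Faithful.main hp hr hperf N hNp h1 hs hna fun hodd => ?_
      have h2 : Group.IsSolvable (H ⧸ N) := hFT _ hodd
      exact hna ⟨⟨IsSimpleGroup.comm_iff_isSolvable.mpr h2⟩⟩
    · have h2 := hfr _ h1
      refine hcon (hcentral H N hr hperf hNp ?_ hs hna)
      intro x hx
      rw [mem_center_iff]
      intro g
      have h3 : g ∈ centralizer (N : Set H) := by rw [h2]; exact mem_top g
      exact (mem_centralizer_iff.mp h3 x hx).symm

end Cfsg.Agent.Omega.Sec.Reduce
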