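import Mathlib
import Cfsg.Prelude.Def_CaseTheorems
import Cfsg.Prelude.Def_Transfer

/-!
# Groups of `p`-rank at most 2: first facts
-/

set_option autoImplicit false

namespace Cfsg.Agent.Omega.Sec.Basic

open Subgroup Cfsg

section

variable {G : Type*} [Group G]

theorem isComm_of {A : Subgroup G} (hc : ∀ a ∈ A, ∀ b ∈ A, a * b = b * a) : IsMulCommutative A :=
  ⟨⟨fun a b => Subtype.ext (hc a a.2 b b.2)⟩⟩

theorem comm_of {A : Subgroup G} (h : IsMulCommutative A) : ∀ a ∈ A, ∀ b ∈ A, a * b = b * a :=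
  fun a ha b hb => congrArg Subtype.val (h.is_comm.comm (⟨a, ha⟩ : A) ⟨b, hb⟩)

/-- A closure of commuting elements with trivial `p`-th powers is elementary abelian. -/
theorem closure_elem {S : Set G} {p : ℕ} (hc : ∀ a ∈ S, ∀ b ∈ S, a * b = b * a)
    (hp : ∀ a ∈ S, a ^ p = 1) :
    (∀ a ∈ closure S, ∀ b ∈ closure S, a * b = b * a) ∧ ∀ a ∈ closure S, a ^ p = 1 := by
  have h1 : ∀ a ∈ closure S, ∀ b ∈ closure S, a * b = b * a := by
    have h2 : closure S ≤ centralizer (closure S : Set G) := by
      rw [closure_le]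
      intro a ha
      rw [SetLike.mem_coe, mem_centralizer_iff]
      intro b hb
      have h3 : closure S ≤ centralizer ({a} : Set G) := by
        rw [closure_le]
        intro c hc'
        rw [SetLike.mem_coe, mem_centralizer_singleton_iff]
        exact hc c hc' a ha
      exact mem_centralizer_singleton_iff.mp (h3 hb)
    intro a ha b hb
    exact ((mem_centralizer_iff.mp (h2 hb)) a ha)
  refine ⟨h1, ?_⟩
  intro a ha
  induction ha using closure_induction with
  | mem x hx => exact hp x hx
  | one => exact one_pow p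
  | mul x y hx hy ih1 ih2 =>
    have h2 : Commute x y := h1 x hx y hy
    rw [h2.mul_pow, ih1, ih2, one_mul]
  | inv x hx ih => rw [inv_pow, ih, inv_one]

variable [Finite G]

/-- In a group of `p`-rank at most 2 an elementary abelian subgroup `A` of order `p ^ 2` contains all elements
of order `p` which commute with it. -/
theorem mem_of_rank {p : ℕ} (hr : PRankLE p 2 G) {A : Subgroup G}
    (hc : ∀ a ∈ A, ∀ b ∈ A, a * b = b * a) (hp : ∀ a ∈ A, a ^ p = 1) (hcard : p ^ 2 ≤ Nat.card A)
    {x : G} (hx : ∀ a ∈ A, x * a = a * x) (hxp : x ^ p = 1) : x ∈ A := by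
  obtain ⟨h1, h2⟩ := closure_elem (S := (A : Set G) ∪ {x}) (p := p) (by
    rintro a (ha | ha) b (hb | hb)
    · exact hc a ha b hb
    · rw [Set.mem_singleton_iff.mp hb]; exact (hx a ha).symm
    · rw [Set.mem_singleton_iff.mp ha]; exact hx b hb
    · rw [Set.mem_singleton_iff.mp ha, Set.mem_singleton_iff.mp hb]) (by
    rintro a (ha | ha)
    · exact hp a ha
    · rw [Set.mem_singleton_iff.mp ha]; exact hxp)
  have h3 := hr (closure ((A : Set G) ∪ {x})) (isComm_of h1) h2
  have h4 : A ≤ closure ((A : Set G) ∪ {x}) := fun a ha => subset_closure (Or.inl ha)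
  have h5 : A = closure ((A : Set G) ∪ {x}) := eq_of_le_of_card_ge h4 (h3.trans hcard)
  rw [h5]
  exact subset_closure (Or.inr rfl)

/-- the group generated by two commuting elements of order `p`, the second not a power of the first -/
theorem card_pair {p : ℕ} [Fact p.Prime] {z x : G} (hz : z ^ p = 1) (hz1 : z ≠ 1) (hx : x ^ p = 1)
    (hzx : z * x = x * z) (hn : x ∉ zpowers z) :
    (∀ a ∈ closure ({z, x} : Set G), ∀ b ∈ closure ({z, x} : Set G), a * b = b * a) ∧
      (∀ a ∈ closure ({z, x} : Set G), a ^ p = 1) ∧ p ^ 2 ≤ Nat.card (closure ({z, x} : Set G)) := by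
  have hpr : p.Prime := Fact.out
  obtain ⟨h1, h2⟩ := closure_elem (S := ({z, x} : Set G)) (p := p) (by
    rintro a (rfl | ha) b (rfl | hb)
    · rfl
    · rw [Set.mem_singleton_iff.mp hb]; exact hzx
    · rw [Set.mem_singleton_iff.mp ha]; exact hzx.symm
    · rw [Set.mem_singleton_iff.mp ha, Set.mem_singleton_iff.mp hb]) (by
    rintro a (rfl | ha)
    · exact hz
    · rw [Set.mem_singleton_iff.mp ha]; exact hx)
  refine ⟨h1, h2, ?_⟩
  have hP : IsPGroup p (closure ({z, x} : Set G)) := by
    intro a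
    exact ⟨1, Subtype.ext (by rw [pow_one]; exact h2 a a.2)⟩
  obtain ⟨n, hn'⟩ := IsPGroup.iff_card.mp hP
  have hle : zpowers z ≤ closure ({z, x} : Set G) := by
    rw [zpowers_le]; exact subset_closure (by simp)
  have hoz : orderOf z = p := orderOf_eq_prime hz hz1
  have hlt : Nat.card (zpowers z) < Nat.card (closure ({z, x} : Set G)) := by
    refine lt_of_le_of_ne (Nat.card_le_card_of_injective _ (inclusion_injective hle)) fun h => hn ?_
    have h3 := eq_of_le_of_card_ge hle h.ge
    rw [h3]
    exact subset_closure (by simp)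
  rw [Nat.card_zpowers, hoz, hn'] at hlt
  rw [hn']
  have h4 : 1 < n := by
    by_contra h5
    have h6 : p ^ n ≤ p ^ 1 := Nat.pow_le_pow_right hpr.pos (by omega)
    rw [pow_one] at h6
    omega
  exact Nat.pow_le_pow_right hpr.pos h4

end

end Cfsg.Agent.Omega.Sec.Basic
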