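import Cfsg.Agent.Omega.Sec.StructP

/-!
# Existence of the configuration
-/

set_option autoImplicit false
set_option linter.unusedSectionVars false

namespace Cfsg.Agent.Omega.Sec.Config

open Subgroup Cfsg Cfsg.Agent.Omega.Sec.Basic Cfsg.Agent.Omega.Sec.Struct

variable {P : Type*} [Group P] [Finite P] {p : ℕ} [Fact p.Prime]

/-- The number of elements of `C_E(a)` when the commutators `[e, a]`, `e ∈ E`, lie in a central group of
order `p`. -/
theorem card_inf_centralizer {z : P} (zc : ∀ g, z * g = g * z) (oz : orderOf z = p) (E : Subgroup P) (a : P)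
    (h : ∀ e ∈ E, e * a * e⁻¹ * a⁻¹ ∈ zpowers z) :
    Nat.card E ≤ Nat.card ↥(E ⊓ centralizer ({a} : Set P)) * p := by
  have hcc : ∀ x ∈ zpowers z, ∀ g, Commute x g := by
    intro x hx g
    obtain ⟨k, rfl⟩ := mem_zpowers_iff.mp hx
    exact (show Commute z g from zc g).zpow_left k
  let φ : ↥E →* ↥(zpowers z) :=
    { toFun := fun e => ⟨(e : P) * a * (e : P)⁻¹ * a⁻¹, h e e.2⟩
      map_one' := Subtype.ext (by simp)
      map_mul' := by
        intro e f
        apply Subtype.ext
        change ((e : P) * f) * a * ((e : P) * f)⁻¹ * a⁻¹ =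
          ((e : P) * a * (e : P)⁻¹ * a⁻¹) * ((f : P) * a * (f : P)⁻¹ * a⁻¹)
        have h1 := (hcc _ (h f f.2) ((e : P) * a * (e : P)⁻¹ * a⁻¹)).eq
        rw [← h1]
        have h2 := (hcc _ (h f f.2) (e : P)).eq
        calc ((e : P) * f) * a * ((e : P) * f)⁻¹ * a⁻¹
            = (e : P) * ((f : P) * a * (f : P)⁻¹ * a⁻¹) * (a * (e : P)⁻¹ * a⁻¹) := by group
          _ = ((f : P) * a * (f : P)⁻¹ * a⁻¹) * (e : P) * (a * (e : P)⁻¹ * a⁻¹) := by rw [h2]
          _ = _ := by group }
  have h1 : Nat.card ↥E = Nat.card (↥E ⧸ φ.ker) * Nat.card φ.ker := card_eq_card_quotient_mul_card_subgroup _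
  have h2 : Nat.card (↥E ⧸ φ.ker) ≤ p := by
    rw [Nat.card_congr (QuotientGroup.quotientKerEquivRange φ).toEquiv]
    calc Nat.card φ.range ≤ Nat.card ↥(zpowers z) := card_le_card_group _
      _ = p := by rw [Nat.card_zpowers, oz]
  have h3 : Nat.card φ.ker ≤ Nat.card ↥(E ⊓ centralizer ({a} : Set P)) := by
    apply Nat.card_le_card_of_injective
      (fun x : φ.ker => (⟨((x : ↥E) : P), (x : ↥E).2, by
        change ((x : ↥E) : P) ∈ centralizer ({a} : Set P)
        rw [mem_centralizer_singleton_iff]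
        have h4 : φ x = 1 := x.2
        have h5 : ((x : ↥E) : P) * a * ((x : ↥E) : P)⁻¹ * a⁻¹ = 1 := congrArg Subtype.val h4
        calc ((x : ↥E) : P) * a = (((x : ↥E) : P) * a * ((x : ↥E) : P)⁻¹ * a⁻¹) * (a * x) := by group
          _ = a * x := by rw [h5, one_mul]⟩ : ↥(E ⊓ centralizer ({a} : Set P))))
    intro x y hxy
    apply Subtype.ext
    apply Subtype.ext
    exact congrArg (fun t : ↥(E ⊓ centralizer ({a} : Set P)) => (t : P)) hxy
  rw [h1]
  calc Nat.card (↥E ⧸ φ.ker) * Nat.card φ.ker ≤ p * Nat.card ↥(E ⊓ centralizer ({a} : Set P)) :=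
        Nat.mul_le_mul h2 h3
    _ = _ := mul_comm _ _

theorem exists_cfg (hp : p ≠ 2) (hP : IsPGroup p P) (hr : PRankLE p 2 P) {z : P}
    (zc : ∀ g, z * g = g * z) (z1 : z ≠ 1) (zp : z ^ p = 1) (E Om : Subgroup P) (hOE : Om ≤ E)
    (hEc : ∀ x ∈ E, ∀ y ∈ E, x * y * x⁻¹ * y⁻¹ ∈ zpowers z) (hOmp : ∀ x ∈ Om, x ^ p = 1)
    (hOm : p ^ 3 ≤ Nat.card Om) (hE : p ^ 4 ≤ Nat.card E) :
    ∃ (a m : P) (A : Subgroup P), Cfg p z a m A Om := by
  have hpr : p.Prime := Fact.out
  have hp1 := hpr.one_lt
  have oz : orderOf z = p := orderOf_eq_prime zp z1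
  -- `P` is not cyclic
  have hnc : ¬ IsCyclic P := by
    intro hc
    have h1 := hr Om (isComm_of fun x _ y _ => by
      exact hc.isMulCommutative.is_comm.comm x y) hOmp
    have h2 := Nat.pow_lt_pow_right hp1 (show 2 < 3 by norm_num)
    omega
  obtain ⟨A, hAn, ⟨hAc', hAp⟩, hAcard⟩ := Cfsg.Agent.S0126.result hp hP hnc
  have hAc := comm_of hAc'
  have hzA : z ∈ A := mem_of_rank hr hAc hAp hAcard.ge (fun x _ => zc x) zp
  -- `a`
  obtain ⟨a, haA, haz⟩ : ∃ a ∈ A, a ∉ zpowers z := by
    by_contra hcon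
    push Not at hcon
    have h2 := Nat.card_le_card_of_injective _ (inclusion_injective (show A ≤ zpowers z from hcon))
    rw [hAcard, Nat.card_zpowers, oz] at h2
    nlinarith
  -- elements commuting with `a`
  have hAeq : A = closure ({z, a} : Set P) := by
    symm
    apply eq_of_le_of_card_ge
    · rw [closure_le]
      rintro y (rfl | hy)
      · exact hzA
      · rw [Set.mem_singleton_iff.mp hy]; exact haA
    · rw [hAcard]
      exact (card_pair zp z1 (hAp a haA) (zc a) haz).2.2
  have hcA : ∀ d, d * a = a * d → ∀ x ∈ A, d * x = x * d := by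
    intro d hd x hx
    rw [hAeq] at hx
    have h1 : closure ({z, a} : Set P) ≤ centralizer ({d} : Set P) := by
      rw [closure_le]
      rintro y (rfl | hy)
      · rw [SetLike.mem_coe, mem_centralizer_singleton_iff]; exact zc d
      · rw [Set.mem_singleton_iff.mp hy, SetLike.mem_coe, mem_centralizer_singleton_iff]; exact hd.symm
    exact (mem_centralizer_singleton_iff.mp (h1 hx)).symm
  have hmA : ∀ x, x * a = a * x → x ^ p = 1 → x ∈ A := fun x h1 h2 =>
    mem_of_rank hr hAc hAp hAcard.ge (hcA x h1) h2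
  -- `D = C(a)` is normal
  have hDn : (centralizer ({a} : Set P)).Normal := by
    constructor
    intro d hd g
    rw [mem_centralizer_singleton_iff] at hd ⊢
    have h1 : g⁻¹ * a * g ∈ A := by
      have := hAn.conj_mem a haA g⁻¹
      rwa [inv_inv] at this
    have h2 := hcA d hd _ h1
    calc g * d * g⁻¹ * a = g * (d * (g⁻¹ * a * g)) * g⁻¹ := by group
      _ = g * ((g⁻¹ * a * g) * d) * g⁻¹ := by rw [h2]
      _ = a * (g * d * g⁻¹) := by group
  -- some `m ∈ Om` does not commute with `a`
  obtain ⟨m, hmOm, hma⟩ : ∃ m ∈ Om, m * a ≠ a * m := by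
    by_contra hcon
    push Not at hcon
    have h1 : Om ≤ A := fun x hx => hmA x (hcon x hx) (hOmp x hx)
    have h2 := Nat.card_le_card_of_injective _ (inclusion_injective h1)
    rw [hAcard] at h2
    have h3 := Nat.pow_lt_pow_right hp1 (show 2 < 3 by norm_num)
    omega
  -- the index of `D`
  have hidx : (centralizer ({a} : Set P)).index < p ^ 2 := by
    rw [index_eq_card, ← hAcard]
    have h1 : Nat.card (P ⧸ centralizer ({a} : Set P)) ≤ Nat.card {x : ↥A // x ≠ 1} := by
      apply Nat.card_le_card_of_injective (fun x : P ⧸ centralizer ({a} : Set P) =>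
        Quotient.liftOn' x (fun g => (⟨⟨g * a * g⁻¹, hAn.conj_mem a haA g⟩, by
          intro h
          have h2 : g * a * g⁻¹ = 1 := congrArg Subtype.val h
          have h3 : a = 1 := by
            calc a = g⁻¹ * (g * a * g⁻¹) * g := by group
              _ = 1 := by rw [h2]; group
          exact haz (h3 ▸ one_mem _)⟩ : {x : ↥A // x ≠ 1})) (by
          intro g h hgh
          rw [QuotientGroup.leftRel_apply, mem_centralizer_singleton_iff] at hgh
          apply Subtype.ext
          apply Subtype.ext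
          change g * a * g⁻¹ = h * a * h⁻¹
          calc g * a * g⁻¹ = g * (a * (g⁻¹ * h)) * h⁻¹ := by group
            _ = g * ((g⁻¹ * h) * a) * h⁻¹ := by rw [hgh]
            _ = h * a * h⁻¹ := by group))
      intro x y
      refine Quotient.inductionOn₂' x y fun g h hgh => ?_
      have h2 : g * a * g⁻¹ = h * a * h⁻¹ := congrArg (fun t : {x : ↥A // x ≠ 1} => ((t : ↥A) : P)) hgh
      apply Quotient.sound'
      rw [QuotientGroup.leftRel_apply, mem_centralizer_singleton_iff]
      calc g⁻¹ * h * a = g⁻¹ * (h * a * h⁻¹) * h := by group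
        _ = g⁻¹ * (g * a * g⁻¹) * h := by rw [h2]
        _ = a * (g⁻¹ * h) := by group
    refine lt_of_le_of_lt h1 ?_
    exact Finite.card_subtype_lt (x := (1 : ↥A)) (by simp)
  have hDp : ∃ k, (centralizer ({a} : Set P)).index = p ^ k := by
    obtain ⟨n, hn⟩ := IsPGroup.iff_card.mp hP
    obtain ⟨k, -, hk⟩ := (Nat.dvd_prime_pow hpr).mp (hn ▸ index_dvd_card (centralizer ({a} : Set P)))
    exact ⟨k, hk⟩
  obtain ⟨k, hk⟩ := hDp
  have hidx1 : (centralizer ({a} : Set P)).index = p := by
    have h1 : k ≤ 1 := by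
      rw [hk] at hidx
      have := (Nat.pow_lt_pow_iff_right hp1).mp hidx
      omega
    have h2 : k ≠ 0 := by
      rintro rfl
      rw [pow_zero, index_eq_one] at hk
      have h3 : m ∈ centralizer ({a} : Set P) := hk ▸ mem_top m
      exact hma (mem_centralizer_singleton_iff.mp h3)
    rw [hk, show k = 1 by omega, pow_one]
  -- `A = Om ∩ D`
  have haOm : a ∈ Om := by
    have h1 : Om ⊓ centralizer ({a} : Set P) ≤ A := fun x hx =>
      hmA x (mem_centralizer_singleton_iff.mp hx.2) (hOmp x hx.1)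
    have h2 : (centralizer ({a} : Set P)).relIndex Om ∣ (centralizer ({a} : Set P)).index :=
      relIndex_dvd_index_of_normal _ _
    rw [hidx1] at h2
    have h3 := Nat.le_of_dvd hpr.pos h2
    have h4 : Nat.card ↥(Om ⊓ centralizer ({a} : Set P)) * (centralizer ({a} : Set P)).relIndex Om =
        Nat.card Om := by
      rw [← inf_relIndex_left]
      have h := card_mul_index ((Om ⊓ centralizer ({a} : Set P)).subgroupOf Om)
      rwa [Nat.card_congr (subgroupOfEquivOfLe inf_le_left).toEquiv] at h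
    have h5 : p ^ 2 ≤ Nat.card ↥(Om ⊓ centralizer ({a} : Set P)) := by
      by_contra hlt
      push Not at hlt
      have h6 : Nat.card Om < p ^ 2 * p := by
        rw [← h4]
        have h7 : 0 < (centralizer ({a} : Set P)).relIndex Om := Nat.pos_of_ne_zero (by
          intro h8; rw [h8] at h2; exact hpr.ne_zero (Nat.eq_zero_of_zero_dvd h2))
        calc _ < p ^ 2 * (centralizer ({a} : Set P)).relIndex Om := Nat.mul_lt_mul_of_pos_right hlt h7
          _ ≤ p ^ 2 * p := Nat.mul_le_mul_left _ h3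
      rw [← pow_succ] at h6
      exact absurd hOm (not_le.mpr h6)
    have h6 : Om ⊓ centralizer ({a} : Set P) = A := eq_of_le_of_card_ge h1 (by rw [hAcard]; exact h5)
    exact (h6 ▸ haA : a ∈ Om ⊓ centralizer ({a} : Set P)).1
  refine ⟨a, m, A, ⟨hp, hP, hr, zc, z1, zp, hAn, hAc, hAp, hAcard, hzA, haA, haz, haOm, hmOm, hOmp,
    fun x hx y hy => hEc x (hOE hx) y (hOE hy), fun h => hma h.symm, ?_, ?_⟩⟩
  · -- generation
    intro g
    have h1 : QuotientGroup.mk' (centralizer ({a} : Set P)) m ≠ 1 := by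
      intro h2
      exact hma (mem_centralizer_singleton_iff.mp ((QuotientGroup.eq_one_iff _).mp h2))
    have h2 : Nat.card (P ⧸ centralizer ({a} : Set P)) = p := by rw [← index_eq_card, hidx1]
    have h3 : QuotientGroup.mk' (centralizer ({a} : Set P)) g ∈
        zpowers (QuotientGroup.mk' (centralizer ({a} : Set P)) m) := by
      rw [zpowers_eq_top_of_prime_card h2 h1]
      exact mem_top _
    obtain ⟨j, hj⟩ := mem_zpowers_iff.mp h3
    refine ⟨g * (m ^ j)⁻¹, j, ?_, by group⟩
    rw [← mem_centralizer_singleton_iff]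
    have h4 : QuotientGroup.mk' (centralizer ({a} : Set P)) (g * (m ^ j)⁻¹) = 1 := by
      rw [map_mul, map_inv, map_zpow, hj, mul_inv_cancel]
    exact (QuotientGroup.eq_one_iff _).mp h4
  · -- `|Y| ≥ p ^ 2`
    have h1 := card_inf_centralizer zc oz E a (fun e he => hEc e he a (hOE haOm))
    have h2 := card_inf_centralizer zc oz (E ⊓ centralizer ({a} : Set P)) m
      (fun e he => hEc e he.1 m (hOE hmOm))
    have h3 : Nat.card ↥(E ⊓ centralizer ({a} : Set P) ⊓ centralizer ({m} : Set P)) ≤
        Nat.card ↥(centralizer ({a, m} : Set P)) := by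
      apply Nat.card_le_card_of_injective _ (inclusion_injective _)
      intro x hx
      rw [mem_centralizer_iff]
      rintro y (rfl | hy)
      · exact (mem_centralizer_singleton_iff.mp hx.1.2).symm
      · rw [Set.mem_singleton_iff.mp hy]
        exact (mem_centralizer_singleton_iff.mp hx.2).symm
    by_contra hlt
    push Not at hlt
    have h4 : Nat.card E < p ^ 4 := by
      calc Nat.card E ≤ Nat.card ↥(E ⊓ centralizer ({a} : Set P)) * p := h1
        _ ≤ (Nat.card ↥(E ⊓ centralizer ({a} : Set P) ⊓ centralizer ({m} : Set P)) * p) * p :=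
            Nat.mul_le_mul_right _ h2
        _ ≤ (Nat.card ↥(centralizer ({a, m} : Set P)) * p) * p :=
            Nat.mul_le_mul_right _ (Nat.mul_le_mul_right _ h3)
        _ < (p ^ 2 * p) * p := Nat.mul_lt_mul_of_pos_right (Nat.mul_lt_mul_of_pos_right hlt hpr.pos) hpr.pos
        _ = p ^ 4 := by ring
    omega

end Cfsg.Agent.Omega.Sec.Config
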