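import Cfsg.Agent.OddOrderLocal.OmegaCritical
import Cfsg.Agent.Lib.ElemAbGL

/-!
# Theorem SEC, step (F): the noncentral case

A perfect group `H` of `p`-rank at most 2 (`p` odd) with a normal `p`-subgroup `N ≥ C_H(N)` such that
`H ⧸ N` is simple nonabelian of even order does not exist.

Proof: `E = Ω₁` of a critical subgroup of `N` has exponent `p` and class at most 2, so
`|E / E'| ≤ p²`; the kernel of `H` on `E / E'` is a `p`-group, so it lies in `N`; an involution `t` of
`H` has determinant 1 on `E / E'` because `H` is perfect, and `t² = 1`, so it acts as a scalar: `t` is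
central modulo `N`.
-/

set_option autoImplicit false

namespace Cfsg.Agent.Omega.Sec.Faithful

open Subgroup
open scoped commutatorElement

universe u

/-! ### Matrices -/

/-- An involution of determinant 1 in `GL(n, p)`, `n ≤ 2`, `p` odd, is central. -/
theorem central_of_sq_eq_one {p : ℕ} [hp : Fact p.Prime] (hp2 : p ≠ 2) {n : ℕ} (hn : n ≤ 2)
    (M : GL (Fin n) (ZMod p)) (h2 : M * M = 1) (hdet : Matrix.GeneralLinearGroup.det M = 1)
    (A : GL (Fin n) (ZMod p)) : M * A = A * M := by
  have hF : (2 : ZMod p) ≠ 0 := by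
    intro h
    have h3 : ((2 : ℕ) : ZMod p) = 0 := by exact_mod_cast h
    rw [ZMod.natCast_eq_zero_iff] at h3
    exact hp2 ((Nat.prime_dvd_prime_iff_eq hp.out Nat.prime_two).mp h3)
  interval_cases n
  · apply Units.ext
    exact Subsingleton.elim _ _
  · apply Units.ext
    ext i j
    fin_cases i
    fin_cases j
    simp [Matrix.mul_apply, mul_comm]
  · have hm : (M : Matrix (Fin 2) (Fin 2) (ZMod p)) * (M : Matrix (Fin 2) (Fin 2) (ZMod p)) = 1 := by
      have := congrArg Units.val h2
      exact this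
    have hd : (M : Matrix (Fin 2) (Fin 2) (ZMod p)).det = 1 := by
      have := congrArg Units.val hdet
      exact this
    set m : Matrix (Fin 2) (Fin 2) (ZMod p) := (M : Matrix (Fin 2) (Fin 2) (ZMod p)) with hmdef
    rw [Matrix.det_fin_two] at hd
    have e00 : m 0 0 * m 0 0 + m 0 1 * m 1 0 = 1 := by
      have := congrFun (congrFun hm 0) 0
      simpa [Matrix.mul_apply, Fin.sum_univ_two] using this
    have e01 : m 0 0 * m 0 1 + m 0 1 * m 1 1 = 0 := by
      have := congrFun (congrFun hm 0) 1
      simpa [Matrix.mul_apply, Fin.sum_univ_two] using this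
    have e10 : m 1 0 * m 0 0 + m 1 1 * m 1 0 = 0 := by
      have := congrFun (congrFun hm 1) 0
      simpa [Matrix.mul_apply, Fin.sum_univ_two] using this
    have hs : m 0 0 * (m 0 0 + m 1 1) = 2 := by
      linear_combination e00 + hd
    have hs0 : m 0 0 + m 1 1 ≠ 0 := by
      intro h
      rw [h, mul_zero] at hs
      exact hF hs.symm
    have h01 : m 0 1 = 0 := by
      have : m 0 1 * (m 0 0 + m 1 1) = 0 := by linear_combination e01
      exact (mul_eq_zero.mp this).resolve_right hs0
    have h10 : m 1 0 = 0 := by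
      have : m 1 0 * (m 0 0 + m 1 1) = 0 := by linear_combination e10
      exact (mul_eq_zero.mp this).resolve_right hs0
    have h00 : m 0 0 ≠ 0 := by
      intro h
      rw [h, zero_mul] at hs
      exact hF hs.symm
    have h11 : m 1 1 = m 0 0 := by
      have : m 0 0 * (m 1 1 - m 0 0) = 0 := by
        rw [h01, zero_mul, add_zero] at e00
        rw [h01, zero_mul, sub_zero] at hd
        linear_combination hd - e00
      exact sub_eq_zero.mp ((mul_eq_zero.mp this).resolve_left h00)
    apply Units.ext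
    change m * (A : Matrix (Fin 2) (Fin 2) (ZMod p)) = (A : Matrix (Fin 2) (Fin 2) (ZMod p)) * m
    ext i j
    fin_cases i <;> fin_cases j <;>
      simp [Matrix.mul_apply, Fin.sum_univ_two, h01, h10, h11, mul_comm]

/-! ### The action on `E / E'` -/

section Act

variable {H : Type u} [Group H]

/-- Conjugation on the abelianization of a normal subgroup. -/
noncomputable def act (E : Subgroup H) [E.Normal] : H →* MulAut (Abelianization E) where
  toFun g := (MulAut.conjNormal g : MulAut E).abelianizationCongr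
  map_one' := by
    rw [map_one]
    ext x
    induction x using QuotientGroup.induction_on with
    | H x => rfl
  map_mul' a b := by
    rw [map_mul]
    ext x
    induction x using QuotientGroup.induction_on with
    | H x => rfl

theorem act_of (E : Subgroup H) [E.Normal] (g : H) (x : E) :
    act E g (Abelianization.of x) = Abelianization.of (MulAut.conjNormal g x) := rfl

/-- An element of `p'`-order acting trivially on `E / E'`, `E` of class at most 2, centralises `E`. -/
theorem fix_of_act_eq_one [Finite H] {p : ℕ} [Fact p.Prime] (E : Subgroup H) [E.Normal]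
    (hE : IsPGroup p E) (hcl : ∀ x y z : E, Commute ⁅x, y⁆ z) {g : H} (hg : (orderOf g).Coprime p)
    (h : act E g = 1) (x : E) : (MulAut.conjNormal g : MulAut E) x = x := by
  set a : MulAut E := MulAut.conjNormal g with ha
  -- `x⁻¹ a(x) ∈ E'`
  have h1 : ∀ y : E, y⁻¹ * a y ∈ commutator E := by
    intro y
    have h2 : Abelianization.of (a y) = Abelianization.of y := by
      have := act_of E g y
      rw [h] at this
      exact this.symm
    exact QuotientGroup.eq.mp h2.symm
  -- `E'` is central
  have hcen : commutator E ≤ center E := by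
    rw [commutator_def, commutator_le]
    intro y _ z _
    rw [mem_center_iff]
    intro w
    exact (hcl y z w).eq.symm
  -- `a` fixes `E'`
  have h3 : ∀ z ∈ commutator E, a z = z := by
    have h4 : commutator E ≤ (a : E ≃* E).toMonoidHom.eqLocus (MonoidHom.id E) := by
      rw [commutator_def, commutator_le]
      intro y _ z _
      change a ⁅y, z⁆ = ⁅y, z⁆
      have hy := mem_center_iff.mp (hcen (h1 y))
      have hz := mem_center_iff.mp (hcen (h1 z))
      set c := y⁻¹ * a y with hc
      set d := z⁻¹ * a z with hd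
      have ey : a y = y * c := by rw [hc]; group
      have ez : a z = z * d := by rw [hd]; group
      rw [map_commutatorElement, ey, ez, commutatorElement_def, commutatorElement_def]
      have hcz : ∀ w : E, c * w = w * c := fun w => (hy w).symm
      have hdz : ∀ w : E, d * w = w * d := fun w => (hz w).symm
      have hci : ∀ w : E, c⁻¹ * w = w * c⁻¹ := fun w => by
        rw [inv_mul_eq_iff_eq_mul, ← mul_assoc, hcz w, mul_assoc, mul_inv_cancel, mul_one]
      have hdi : ∀ w : E, d⁻¹ * w = w * d⁻¹ := fun w => by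
        rw [inv_mul_eq_iff_eq_mul, ← mul_assoc, hdz w, mul_assoc, mul_inv_cancel, mul_one]
      calc y * c * (z * d) * (y * c)⁻¹ * (z * d)⁻¹
          = y * (c * (z * d * c⁻¹)) * y⁻¹ * d⁻¹ * z⁻¹ := by group
        _ = y * (z * d) * y⁻¹ * d⁻¹ * z⁻¹ := by
            rw [hcz (z * d * c⁻¹), mul_assoc (z * d), inv_mul_cancel, mul_one]
        _ = y * z * (d * (y⁻¹ * d⁻¹)) * z⁻¹ := by group
        _ = y * z * y⁻¹ * z⁻¹ := by
            rw [hdz (y⁻¹ * d⁻¹), mul_assoc y⁻¹, inv_mul_cancel, mul_one]
    exact fun z hz => h4 hz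
  refine OddOrderLocal.OmegaCritical.fix_of_fix_div hE a ?_ x (h3 _ (h1 x))
  have h5 : orderOf a ∣ orderOf g := by
    rw [ha]
    exact orderOf_map_dvd _ _
  exact Nat.Coprime.coprime_dvd_left h5 hg

end Act

/-! ### The theorem -/

theorem prankLE_subgroup {G : Type*} [Group G] {p k : ℕ} (h : PRankLE p k G) (H : Subgroup G) :
    PRankLE p k H := by
  intro A hA hp
  have hc : ∀ a ∈ A, ∀ b ∈ A, a * b = b * a := fun a ha b hb => by
    have := hA.is_comm.comm (⟨a, ha⟩ : A) ⟨b, hb⟩
    exact congrArg Subtype.val this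
  have h1 := h (A.map H.subtype) ⟨⟨by
    rintro ⟨_, x, hx, rfl⟩ ⟨_, y, hy, rfl⟩
    apply Subtype.ext
    change (x : G) * y = y * x
    rw [← Subgroup.coe_mul, ← Subgroup.coe_mul, hc x hx y hy]⟩⟩ (by
    rintro _ ⟨x, hx, rfl⟩
    change (x : G) ^ p = 1
    rw [← Subgroup.coe_pow, hp x hx, Subgroup.coe_one])
  rwa [Subgroup.card_map_of_injective H.subtype_injective] at h1

/-- A normal `p`-subgroup lies in `N` if `H ⧸ N` is simple nonabelian. -/
theorem le_of_isPGroup {H : Type u} [Group H] [Finite H] {p : ℕ} [Fact p.Prime] (N K : Subgroup H)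
    [N.Normal] [K.Normal] (hK : IsPGroup p K) (hs : IsSimpleGroup (H ⧸ N))
    (hna : ¬ IsMulCommutative (H ⧸ N)) : K ≤ N := by
  have h1 : (K.map (QuotientGroup.mk' N)).Normal :=
    Subgroup.Normal.map inferInstance _ (QuotientGroup.mk'_surjective N)
  rcases h1.eq_bot_or_eq_top with h2 | h2
  · rw [Subgroup.map_eq_bot_iff, QuotientGroup.ker_mk'] at h2
    exact h2
  · exfalso
    have h3 : IsPGroup p (⊤ : Subgroup (H ⧸ N)) := h2 ▸ hK.map _
    have h4 : IsPGroup p (H ⧸ N) := h3.of_equiv topEquiv
    have h5 : Nontrivial (center (H ⧸ N)) := h4.center_nontrivial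
    have h6 : center (H ⧸ N) = ⊤ := by
      rcases (inferInstance : (center (H ⧸ N)).Normal).eq_bot_or_eq_top with h7 | h7
      · exact absurd h7 ((nontrivial_iff_ne_bot _).mp h5)
      · exact h7
    refine hna ⟨⟨fun a b => ?_⟩⟩
    have h8 : b ∈ center (H ⧸ N) := by rw [h6]; exact mem_top b
    exact mem_center_iff.mp h8 a

/-- **(F)**: the noncentral case of Theorem SEC. -/
theorem main {H : Type u} [Group H] [Finite H] {p : ℕ} [hpf : Fact p.Prime] (hp : p ≠ 2)
    (hr : PRankLE p 2 H) (hperf : commutator H = ⊤) (N : Subgroup H) [hNn : N.Normal]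
    (hN : IsPGroup p N) (hC : centralizer (N : Set H) ≤ N) (hs : IsSimpleGroup (H ⧸ N))
    (hna : ¬ IsMulCommutative (H ⧸ N)) (hFT : ¬ Odd (Nat.card (H ⧸ N))) : False := by
  classical
  obtain ⟨E0, hE0, hexp0, hcl0, hfaith⟩ :=
    OddOrderLocal.OmegaCritical.exists_omega_critical (R := N) hp hN
  have hE0' : E0.Characteristic := hE0
  set E : Subgroup H := E0.map N.subtype with hEdef
  have hEn : E.Normal := ConjAct.normal_of_characteristic_of_normal
  have hexp : ∀ x : E, x ^ p = 1 := by
    rintro ⟨_, y, hy, rfl⟩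
    apply Subtype.ext
    have := congrArg Subtype.val (hexp0 y hy)
    exact this
  have hcl : ∀ x y z : E, Commute ⁅x, y⁆ z := by
    rintro ⟨_, x, hx, rfl⟩ ⟨_, y, hy, rfl⟩ ⟨_, z, hz, rfl⟩
    apply Subtype.ext
    have := congrArg Subtype.val (hcl0 x hx y hy z hz).eq
    exact this
  have hEp : IsPGroup p E := fun x => ⟨1, by rw [pow_one]; exact hexp x⟩
  have hcard := OddOrderLocal.OmegaCritical.card_abelianization_le hexp hcl (prankLE_subgroup hr E)
  -- the kernel lies in `N`
  set ψ := act E with hψ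
  have hKp : IsPGroup p ψ.ker := by
    rintro ⟨g, hg⟩
    obtain ⟨k, m, hm, hord⟩ : ∃ k m : ℕ, m.Coprime p ∧ orderOf g = p ^ k * m := by
      obtain ⟨k, m, hm, h⟩ := Nat.exists_eq_pow_mul_and_not_dvd (orderOf_pos g).ne' p
        hpf.out.ne_one
      exact ⟨k, m, (Nat.Coprime.symm ((Nat.Prime.coprime_iff_not_dvd hpf.out).mpr hm)), h⟩
    refine ⟨k, Subtype.ext ?_⟩
    change g ^ p ^ k = 1
    have h1 : orderOf (g ^ p ^ k) = m := by
      rw [orderOf_pow' g (pow_ne_zero _ hpf.out.ne_zero), hord,
        Nat.gcd_eq_right (dvd_mul_right _ _), Nat.mul_div_cancel_left _ (pow_pos hpf.out.pos _)]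
    have h2 : (orderOf (g ^ p ^ k)).Coprime p := by rw [h1]; exact hm
    have h3 : ψ (g ^ p ^ k) = 1 := by
      rw [map_pow, MonoidHom.mem_ker.mp hg, one_pow]
    have h4 := fix_of_act_eq_one E hEp hcl h2 h3
    have h5 : (MulAut.conjNormal (g ^ p ^ k) : MulAut N) = 1 := by
      refine hfaith _ ?_ fun x hx => ?_
      · exact Nat.Coprime.coprime_dvd_left (orderOf_map_dvd _ _) h2
      · have h6 := congrArg Subtype.val (h4 ⟨(x : H), x, hx, rfl⟩)
        rw [MulAut.conjNormal_apply] at h6
        apply Subtype.ext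
        rw [MulAut.conjNormal_apply]
        exact h6
    have h7 : g ^ p ^ k ∈ N := by
      apply hC
      rw [mem_centralizer_iff]
      intro x hx
      have h8 := congrArg (fun φ : MulAut N => ((φ ⟨x, hx⟩ : N) : H)) h5
      simp only [MulAut.conjNormal_apply, MulAut.one_apply] at h8
      exact (mul_inv_eq_iff_eq_mul.mp h8).symm
    obtain ⟨j, hj⟩ := hN ⟨_, h7⟩
    have h9 : (g ^ p ^ k) ^ p ^ j = 1 := congrArg Subtype.val hj
    have h10 : orderOf (g ^ p ^ k) ∣ 1 := by
      have h11 : (orderOf (g ^ p ^ k)).Coprime (p ^ j) := Nat.Coprime.pow_right j h2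
      rw [← h11]
      exact Nat.dvd_gcd dvd_rfl (orderOf_dvd_of_pow_eq_one h9)
    exact orderOf_eq_one_iff.mp (Nat.dvd_one.mp h10)
  have hKN : ψ.ker ≤ N := le_of_isPGroup N ψ.ker hKp hs hna
  -- `MulAut (E / E')` is a linear group of degree at most 2
  have hAexp : ∀ x : Abelianization E, x ^ p = 1 := by
    intro x
    induction x using QuotientGroup.induction_on with
    | H x =>
      change Abelianization.of x ^ p = 1
      rw [← map_pow, hexp x, map_one]
  have hAp : IsPGroup p (Abelianization E) := fun x => ⟨1, by rw [pow_one]; exact hAexp x⟩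
  obtain ⟨n, hn⟩ := IsPGroup.iff_card.mp hAp
  have hn2 : n ≤ 2 := by
    rw [hn] at hcard
    exact (Nat.pow_le_pow_iff_right hpf.out.one_lt).mp hcard
  obtain ⟨e⟩ := Lib.ElemAbGL.mulAut_equiv_GL p n hAexp hn
  let f : H →* GL (Fin n) (ZMod p) := e.toMonoidHom.comp ψ
  have hdet : ∀ g : H, Matrix.GeneralLinearGroup.det (f g) = 1 := by
    intro g
    have h1 : commutator H ≤ (Matrix.GeneralLinearGroup.det.comp f).ker :=
      Abelianization.commutator_subset_ker _
    have h2 : g ∈ (Matrix.GeneralLinearGroup.det.comp f).ker := h1 (by rw [hperf]; exact mem_top g)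
    exact MonoidHom.mem_ker.mp h2
  -- an involution
  have heven : 2 ∣ Nat.card (H ⧸ N) := by
    rw [Nat.not_odd_iff_even] at hFT
    exact hFT.two_dvd
  have hf2 : Fact (Nat.Prime 2) := ⟨Nat.prime_two⟩
  obtain ⟨u, hu⟩ := exists_prime_orderOf_dvd_card' 2 heven
  obtain ⟨s, rfl⟩ := QuotientGroup.mk_surjective u
  have hs2 : s ^ 2 ∈ N := by
    have h1 : ((s : H ⧸ N)) ^ 2 = 1 := by rw [← hu]; exact pow_orderOf_eq_one _
    have h2 : ((s ^ 2 : H) : H ⧸ N) = 1 := h1
    exact (QuotientGroup.eq_one_iff _).mp h2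
  have hNodd : Odd (Nat.card N) := by
    obtain ⟨k, hk⟩ := IsPGroup.iff_card.mp hN
    rw [hk]
    exact (hpf.out.odd_of_ne_two hp).pow
  set t : H := s ^ Nat.card N with ht
  have ht2 : t * t = 1 := by
    rw [← pow_two, ht, ← pow_mul, mul_comm, pow_mul]
    exact congrArg Subtype.val (pow_card_eq_one' (x := (⟨s ^ 2, hs2⟩ : N)))
  have htN : t ∉ N := by
    intro h1
    have h2 : ((s : H ⧸ N)) ^ Nat.card N = 1 := by
      have : ((t : H) : H ⧸ N) = 1 := (QuotientGroup.eq_one_iff t).mpr h1
      exact this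
    have h3 := orderOf_dvd_of_pow_eq_one h2
    rw [hu] at h3
    exact (Nat.not_even_iff_odd.mpr hNodd) (even_iff_two_dvd.mpr h3)
  -- `t` acts as a scalar
  have hcomm : ∀ g : H, f t * f g = f g * f t := fun g => by
    refine central_of_sq_eq_one hp hn2 (f t) ?_ (hdet t) (f g)
    rw [← map_mul, ht2, map_one]
  have hcen : ∀ g : H, ⁅t, g⁆ ∈ N := by
    intro g
    apply hKN
    rw [MonoidHom.mem_ker]
    apply e.injective
    rw [map_one]
    have h1 : f ⁅t, g⁆ = 1 := by
      rw [map_commutatorElement, commutatorElement_eq_one_iff_mul_comm]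
      exact hcomm g
    exact h1
  have hz : (t : H ⧸ N) ∈ center (H ⧸ N) := by
    rw [mem_center_iff]
    intro x
    induction x using QuotientGroup.induction_on with
    | H g =>
      have h1 : ((⁅t, g⁆ : H) : H ⧸ N) = 1 := (QuotientGroup.eq_one_iff _).mpr (hcen g)
      have h2 : ⁅(t : H ⧸ N), (g : H ⧸ N)⁆ = 1 := h1
      exact (commutatorElement_eq_one_iff_mul_comm.mp h2).symm
  have hbot : center (H ⧸ N) = ⊥ := by
    rcases (inferInstance : (center (H ⧸ N)).Normal).eq_bot_or_eq_top with h7 | h7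
    · exact h7
    · exfalso
      refine hna ⟨⟨fun a b => ?_⟩⟩
      have h8 : b ∈ center (H ⧸ N) := by rw [h7]; exact mem_top b
      exact mem_center_iff.mp h8 a
  rw [hbot, mem_bot] at hz
  exact htN ((QuotientGroup.eq_one_iff t).mp hz)

end Cfsg.Agent.Omega.Sec.Faithful
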