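import Cfsg.Agent.Omega.Sec.Reduce
import Cfsg.Agent.Omega.Quasithin.Rows

/-!
# Theorem SEC

`sec_of` : Theorem SEC (`Quasithin.Sec`: a simple nonabelian quotient of a finite group of `p`-rank at
most 2, `p` odd, has `p`-rank at most 2) from its central case `CentralCase` (helper690's
`Sec/Central`) and the odd order theorem (S0205).
-/

set_option autoImplicit false

namespace Cfsg.Agent.Omega.Sec.Main

open Subgroup

universe u

/-- The odd order theorem (S0205) in universe `u`. -/
def OddOrd : Prop :=
  ∀ (X : Type u) [Group X] [Finite X], Odd (Nat.card X) → Group.IsSolvable X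

/-- The central case. -/
def CentralCase : Prop :=
  ∀ (H : Type u) [Group H] [Finite H] (p : ℕ) [Fact p.Prime], p ≠ 2 → PRankLE p 2 H →
    commutator H = ⊤ → ∀ (N : Subgroup H) [N.Normal], IsPGroup p N → N ≤ center H →
    PRankLE p 2 (H ⧸ N)

/-- **Theorem SEC** from the central case and the odd order theorem. -/
theorem sec_of (hFT : OddOrd.{u}) (hC : CentralCase.{u}) : Quasithin.Sec.{u} := by
  intro p hpf hp2 H _ _ N _ hr hs hna
  exact Reduce.reduce hFT hp2 (fun H _ _ N _ hr hperf hN hNc _ _ => hC H p hp2 hr hperf N hN hNc)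
    _ H N rfl hr hs hna

end Cfsg.Agent.Omega.Sec.Main
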