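import Cfsg.Agent.Omega.Sec.Basic
import Cfsg.Agent.S0126
import Cfsg.Agent.S0127
import Cfsg.Agent.Lib.MaxNormalElementary

/-!
# `p`-groups of rank 2 containing an extraspecial group with large centralizer

`p` odd, `P` a `p`-group of rank at most 2, `A = ⟨z, a⟩` normal of order `p ^ 2`, `z` central, `m` of order `p`,
`[a, m]` a generator of `⟨z⟩`, `P = C_P(a)⟨m⟩`, `|C_P(a, m)| ≥ p ^ 2`. Then `P = M⟨u⟩`, `M = ⟨a, m⟩`, and for
`q = |u| / p` the map `w ↦ w ^ q` is a nontrivial homomorphism `P → ⟨z⟩`.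
-/

set_option autoImplicit false
set_option linter.unusedSectionVars false

namespace Cfsg.Agent.Omega.Sec.Struct

open Subgroup Cfsg Cfsg.Agent.Omega.Sec.Basic

variable {P : Type*} [Group P] {p : ℕ}

/-- The configuration. -/
structure Cfg (p : ℕ) (z a m : P) (A Om : Subgroup P) : Prop where
  hp : p ≠ 2
  hP : IsPGroup p P
  hr : PRankLE p 2 P
  zc : ∀ g, z * g = g * z
  z1 : z ≠ 1
  zp : z ^ p = 1
  An : A.Normal
  Ac : ∀ x ∈ A, ∀ y ∈ A, x * y = y * x
  Ap : ∀ x ∈ A, x ^ p = 1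
  Acard : Nat.card A = p ^ 2
  zA : z ∈ A
  aA : a ∈ A
  az : a ∉ zpowers z
  aOm : a ∈ Om
  mOm : m ∈ Om
  Omp : ∀ x ∈ Om, x ^ p = 1
  Omc : ∀ x ∈ Om, ∀ y ∈ Om, x * y * x⁻¹ * y⁻¹ ∈ zpowers z
  am : a * m ≠ m * a
  gen : ∀ g : P, ∃ (d : P) (j : ℤ), d * a = a * d ∧ g = d * m ^ j
  Y2 : p ^ 2 ≤ Nat.card (centralizer ({a, m} : Set P))

namespace Cfg

variable {z a m : P} {A Om : Subgroup P}

theorem mem_Y {x : P} : x ∈ centralizer ({a, m} : Set P) ↔ x * a = a * x ∧ x * m = m * x := by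
  rw [mem_centralizer_iff]
  constructor
  · intro h
    exact ⟨(h a (by simp)).symm, (h m (by simp)).symm⟩
  · rintro ⟨h1, h2⟩ y (rfl | hy)
    · exact h1.symm
    · rw [Set.mem_singleton_iff.mp hy]; exact h2.symm

section

variable [Fact p.Prime] [Finite P] (C : Cfg p z a m A Om)
include C

theorem oz : orderOf z = p := orderOf_eq_prime C.zp C.z1

theorem ne_one_of_not_mem {x : P} (hx : x ∉ zpowers z) : x ≠ 1 := by
  rintro rfl
  exact hx (one_mem _)

/-- `A = ⟨z, x⟩` for `x ∈ A`, `x ∉ ⟨z⟩` -/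
theorem A_eq {x : P} (hx : x ∈ A) (hxz : x ∉ zpowers z) : A = closure ({z, x} : Set P) := by
  symm
  apply eq_of_le_of_card_ge
  · rw [closure_le]
    rintro y (rfl | hy)
    · exact C.zA
    · rw [Set.mem_singleton_iff.mp hy]; exact hx
  · rw [C.Acard]
    exact (card_pair C.zp C.z1 (C.Ap x hx) (C.zc x) hxz).2.2

/-- elements commuting with `a` commute with `A` -/
theorem comm_A {d : P} (hd : d * a = a * d) : ∀ x ∈ A, d * x = x * d := by
  intro x hx
  rw [C.A_eq C.aA C.az] at hx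
  have h1 : closure ({z, a} : Set P) ≤ centralizer ({d} : Set P) := by
    rw [closure_le]
    rintro y (rfl | hy)
    · rw [SetLike.mem_coe, mem_centralizer_singleton_iff]; exact C.zc d
    · rw [Set.mem_singleton_iff.mp hy, SetLike.mem_coe, mem_centralizer_singleton_iff]; exact hd.symm
  exact (mem_centralizer_singleton_iff.mp (h1 hx)).symm

/-- (f1) -/
theorem mem_A {x : P} (hx : x * a = a * x) (hxp : x ^ p = 1) : x ∈ A :=
  mem_of_rank C.hr C.Ac C.Ap C.Acard.ge (C.comm_A hx) hxp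

/-- `D = C(a)` is normal -/
theorem conj_D {d : P} (hd : d * a = a * d) (g : P) : (g * d * g⁻¹) * a = a * (g * d * g⁻¹) := by
  have h1 : g⁻¹ * a * g ∈ A := by
    have := C.An.conj_mem a C.aA g⁻¹
    rwa [inv_inv] at this
  have h2 := C.comm_A hd _ h1
  calc g * d * g⁻¹ * a = g * (d * (g⁻¹ * a * g)) * g⁻¹ := by group
    _ = g * ((g⁻¹ * a * g) * d) * g⁻¹ := by rw [h2]
    _ = a * (g * d * g⁻¹) := by group

/-- (f9) -/
theorem mem_z {x : P} (hx : x * a = a * x) (hxm : x * m = m * x) (hxp : x ^ p = 1) : x ∈ zpowers z := by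
  by_contra h
  have h1 := C.A_eq (C.mem_A hx hxp) h
  have h2 : a ∈ closure ({z, x} : Set P) := h1 ▸ C.aA
  have h3 : closure ({z, x} : Set P) ≤ centralizer ({m} : Set P) := by
    rw [closure_le]
    rintro y (rfl | hy)
    · rw [SetLike.mem_coe, mem_centralizer_singleton_iff]; exact C.zc m
    · rw [Set.mem_singleton_iff.mp hy, SetLike.mem_coe, mem_centralizer_singleton_iff]; exact hxm
  exact C.am (mem_centralizer_singleton_iff.mp (h3 h2))

/-- the commutator `[a, m]` generates `⟨z⟩` -/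
theorem zpowers_comm : zpowers (a * m * a⁻¹ * m⁻¹) = zpowers z := by
  have h1 := C.Omc a C.aOm m C.mOm
  have h2 : a * m * a⁻¹ * m⁻¹ ≠ 1 := by
    intro h
    apply C.am
    calc a * m = (a * m * a⁻¹ * m⁻¹) * (m * a) := by group
      _ = m * a := by rw [h, one_mul]
  apply eq_of_le_of_card_ge
  · rwa [zpowers_le]
  · rw [Nat.card_zpowers, Nat.card_zpowers, C.oz]
    have h3 : (a * m * a⁻¹ * m⁻¹) ^ p = 1 := by
      obtain ⟨i, hi⟩ := mem_zpowers_iff.mp h1
      rw [← hi, ← zpow_natCast, ← zpow_mul, mul_comm, zpow_mul, zpow_natCast, C.zp, one_zpow]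
    rw [orderOf_eq_prime h3 h2]

theorem z_mem_M : z ∈ closure ({a, m} : Set P) := by
  have h1 : z ∈ zpowers (a * m * a⁻¹ * m⁻¹) := by rw [C.zpowers_comm]; exact mem_zpowers z
  have ha : a ∈ closure ({a, m} : Set P) := subset_closure (by simp)
  have hm : m ∈ closure ({a, m} : Set P) := subset_closure (by simp)
  have h2 : zpowers (a * m * a⁻¹ * m⁻¹) ≤ closure ({a, m} : Set P) := by
    rw [zpowers_le]
    exact mul_mem (mul_mem (mul_mem ha hm) (inv_mem ha)) (inv_mem hm)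
  exact h2 h1

theorem M_le : closure ({a, m} : Set P) ≤ Om := by
  rw [closure_le]
  rintro y (rfl | hy)
  · exact C.aOm
  · rw [Set.mem_singleton_iff.mp hy]; exact C.mOm

theorem A_le_M : A ≤ closure ({a, m} : Set P) := by
  rw [C.A_eq C.aA C.az, closure_le]
  rintro y (rfl | hy)
  · exact C.z_mem_M
  · rw [Set.mem_singleton_iff.mp hy]; exact subset_closure (by simp)

/-- (f7) `Y` is cyclic -/
theorem Y_cyclic : IsCyclic ↥(centralizer ({a, m} : Set P)) := by
  by_contra h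
  obtain ⟨B, -, hB, hcard⟩ := Cfsg.Agent.S0126.result C.hp (C.hP.to_subgroup _) h
  have h1 : B.map (centralizer ({a, m} : Set P)).subtype ≤ zpowers z := by
    rintro _ ⟨b, hb, rfl⟩
    have h2 := mem_Y.mp b.2
    refine C.mem_z h2.1 h2.2 ?_
    have h3 := hB.2 b hb
    exact congrArg Subtype.val h3
  have h2 := Nat.card_le_card_of_injective _ (inclusion_injective h1)
  rw [card_map_of_injective (subtype_injective _), hcard, Nat.card_zpowers, C.oz] at h2
  have h3 : p.Prime := Fact.out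
  have h4 := h3.two_le
  nlinarith

/-- (f6) -/
theorem mem_AY {d : P} (hd : d * a = a * d) {i : ℤ} (hi : d * m = (a * m * a⁻¹ * m⁻¹) ^ i * (m * d)) :
    ∃ x ∈ A, ∃ y ∈ centralizer ({a, m} : Set P), d = x * y := by
  set c := a * m * a⁻¹ * m⁻¹ with hc
  have hcz : c ∈ zpowers z := C.Omc a C.aOm m C.mOm
  have hcc : ∀ g, Commute c g := by
    intro g
    obtain ⟨k, hk⟩ := mem_zpowers_iff.mp hcz
    rw [← hk]
    exact (show Commute z g from C.zc g).zpow_left k
  have h1 : ∀ n : ℤ, a ^ n * m * (a ^ n)⁻¹ = c ^ n * m := by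
    intro n
    have h3 : MulAut.conj m⁻¹ a = c * a := by
      rw [MulAut.conj_apply, inv_inv]
      calc m⁻¹ * a * m = m⁻¹ * (c * (m * a)) := by rw [hc]; group
        _ = m⁻¹ * (m * a * c) := by rw [(hcc (m * a)).eq]
        _ = a * c := by group
        _ = c * a := (hcc a).eq.symm
    have h4 : MulAut.conj m⁻¹ (a ^ n) = c ^ n * a ^ n := by
      rw [map_zpow, h3, (hcc a).mul_zpow]
    rw [MulAut.conj_apply, inv_inv] at h4
    calc a ^ n * m * (a ^ n)⁻¹ = m * (m⁻¹ * a ^ n * m) * (a ^ n)⁻¹ := by group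
      _ = m * (c ^ n * a ^ n) * (a ^ n)⁻¹ := by rw [h4]
      _ = m * c ^ n := by group
      _ = c ^ n * m := ((hcc m).zpow_left n).eq.symm
  refine ⟨a ^ i, A.zpow_mem C.aA i, (a ^ i)⁻¹ * d, mem_Y.mpr ⟨?_, ?_⟩, by group⟩
  · have h5 : Commute d a := hd
    have h6 : Commute (a ^ i)⁻¹ a := ((Commute.refl a).zpow_left i).inv_left
    exact (h6.mul_left h5).eq
  · have h7 := h1 i
    calc (a ^ i)⁻¹ * d * m = (a ^ i)⁻¹ * (c ^ i * (m * d)) := by rw [mul_assoc, hi]
      _ = (a ^ i)⁻¹ * (c ^ i * m) * d := by group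
      _ = (a ^ i)⁻¹ * (a ^ i * m * (a ^ i)⁻¹) * d := by rw [h7]
      _ = m * ((a ^ i)⁻¹ * d) := by group

end

end Cfg

end Cfsg.Agent.Omega.Sec.Struct
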