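import Cfsg.Agent.Omega.Sec.StructR

/-!
# `p`-groups of rank 2 containing an extraspecial group with large centralizer: the power homomorphism
-/

set_option autoImplicit false
set_option linter.unusedSectionVars false

namespace Cfsg.Agent.Omega.Sec.Struct

open Subgroup Cfsg Cfsg.Agent.Omega.Sec.Basic

variable {P : Type*} [Group P] {p : ℕ}

namespace Cfg

variable {z a m : P} {A Om : Subgroup P}

variable [Fact p.Prime] [Finite P] (C : Cfg p z a m A Om)
include C

/-- `⟨z⟩` is normal -/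
theorem z_normal : (zpowers z).Normal := by
  constructor
  intro x hx g
  rw [(C.zz_comm hx g).symm.eq, mul_inv_cancel_right]
  exact hx

theorem aM : a ∈ MM a m := subset_closure (by simp)

theorem mM : m ∈ MM a m := subset_closure (by simp)

theorem M_le_R : MM a m ≤ RR a m := le_normalizer

/-- the possible generators `u` of `R` mod `M`: `Y = ⟨u⟩` or `Y = ⟨u ^ p⟩` -/
structure IsU (a m : P) (p : ℕ) (u : P) : Prop where
  ua : u * a = a * u
  uR : u ∈ RR a m
  alt : YY a m = zpowers u ∨ YY a m = zpowers (u ^ p)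
  span : ∀ d : P, d * a = a * d → d ∈ RR a m → ∃ x ∈ MM a m, ∃ k : ℤ, d = x * u ^ k

/-- (f10) -/
theorem exists_isU : ∃ u, IsU a m p u := by
  have hpr : p.Prime := Fact.out
  by_cases hcase : ∃ s : P, s * a = a * s ∧ s ∈ RR a m ∧ ¬ ∃ x ∈ A, ∃ y ∈ YY a m, s = x * y
  · obtain ⟨s, hs, hsR, hn⟩ := hcase
    obtain ⟨u, hu, huR, hY⟩ := C.exists_gen hs hsR hn
    refine ⟨u, hu, huR, Or.inr hY, ?_⟩
    intro d hd hdR
    obtain ⟨b, hb, hbu⟩ := C.swap_of_normalizer hu huR
    obtain ⟨c, hc, hcd⟩ := C.swap_of_normalizer hd hdR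
    -- `b ∉ ⟨z⟩`
    have hbz : b ∉ zpowers z := by
      intro hbz
      rw [← C.zpowers_comm] at hbz
      obtain ⟨i, hi⟩ := mem_zpowers_iff.mp hbz
      rw [← hi] at hbu
      obtain ⟨x, hx, y, hy, hxy⟩ := C.mem_AY hu hbu
      have hy' := hy
      rw [show centralizer ({a, m} : Set P) = YY a m from rfl, hY] at hy'
      obtain ⟨j, hj⟩ := mem_zpowers_iff.mp hy'
      have h1 : x = u ^ (1 - (p : ℤ) * j) := by
        have h2 : x = u * y⁻¹ := by rw [hxy]; group
        rw [h2, ← hj, ← zpow_natCast, ← zpow_mul, zpow_sub, zpow_one]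
      have h2 : (u ^ (1 - (p : ℤ) * j)) ^ p = 1 := by rw [← h1]; exact C.Ap x hx
      have h3 : (u ^ p) ^ (1 - (p : ℤ) * j) = 1 := by
        rw [← h2, ← zpow_natCast, ← zpow_natCast, ← zpow_mul, ← zpow_mul, mul_comm]
      have h4 : orderOf (u ^ p) ∣ p := by
        have h5 : ((orderOf (u ^ p) : ℕ) : ℤ) ∣ 1 - (p : ℤ) * j := orderOf_dvd_iff_zpow_eq_one.mpr h3
        obtain ⟨k, hk⟩ := (IsPGroup.iff_orderOf.mp C.hP (u ^ p))
        rcases k.eq_zero_or_pos with hk0 | hk0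
        · rw [hk, hk0, pow_zero]; exact one_dvd p
        · exfalso
          have h6 : (p : ℤ) ∣ 1 - (p : ℤ) * j := by
            refine dvd_trans ?_ h5
            rw [hk]
            exact_mod_cast dvd_pow_self p hk0.ne'
          have h7 : (p : ℤ) ∣ 1 := by
            have := dvd_add h6 (Dvd.intro j rfl)
            simpa using this
          have h8 : p ∣ 1 := by exact_mod_cast h7
          exact hpr.one_lt.ne' (Nat.dvd_one.mp h8)
      have h5 := C.Y2
      rw [show centralizer ({a, m} : Set P) = YY a m from rfl, hY, Nat.card_zpowers] at h5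
      have h6 := Nat.le_of_dvd hpr.pos h4
      have h7 := hpr.two_le
      nlinarith
    -- `c = z ^ i * b ^ k`
    have h1 : c ∈ zpowers z ⊔ zpowers b := by
      have h2 : closure ({z, b} : Set P) ≤ zpowers z ⊔ zpowers b := by
        rw [closure_le]
        rintro w (rfl | hw)
        · exact (le_sup_left : zpowers w ≤ _) (mem_zpowers w)
        · rw [Set.mem_singleton_iff.mp hw]
          exact (le_sup_right : zpowers b ≤ _) (mem_zpowers b)
      apply h2
      rw [← C.A_eq hb hbz]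
      exact hc
    have hzn := C.z_normal
    rw [mem_sup_of_normal_left] at h1
    obtain ⟨z', hz', b', hb', hzb⟩ := h1
    obtain ⟨k, rfl⟩ := mem_zpowers_iff.mp hb'
    -- `u ^ (-k) * d`
    have hcu : Commute c (u ^ k) := ((show Commute u c from C.comm_A hu c hc).zpow_left k).symm
    have h2 : u ^ (-k) * m = b ^ (-k) * (m * u ^ (-k)) := pow_swap hbu (C.comm_A hu b hb).symm (-k)
    have h3 : (u ^ (-k) * d) * m = z' * (m * (u ^ (-k) * d)) := by
      calc (u ^ (-k) * d) * m = u ^ (-k) * (c * (m * d)) := by rw [mul_assoc, hcd]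
        _ = (u ^ (-k) * c) * m * d := by group
        _ = (c * u ^ (-k)) * m * d := by
            rw [((show Commute u c from C.comm_A hu c hc).zpow_left (-k)).eq]
        _ = c * (u ^ (-k) * m) * d := by group
        _ = c * (b ^ (-k) * (m * u ^ (-k))) * d := by rw [h2]
        _ = (z' * b ^ k) * (b ^ (-k) * (m * u ^ (-k))) * d := by rw [hzb]
        _ = z' * (m * (u ^ (-k) * d)) := by group
    have hz'' : z' ∈ zpowers (a * m * a⁻¹ * m⁻¹) := by rw [C.zpowers_comm]; exact hz'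
    obtain ⟨i, hi⟩ := mem_zpowers_iff.mp hz''
    rw [← hi] at h3
    have h4 : (u ^ (-k) * d) * a = a * (u ^ (-k) * d) :=
      (((show Commute u a from hu).zpow_left (-k)).mul_left (show Commute d a from hd)).eq
    obtain ⟨x, hx, y, hy, hxy⟩ := C.mem_AY h4 h3
    have hyu : y ∈ zpowers u := by
      have h5 : y ∈ zpowers (u ^ p) := hY ▸ hy
      obtain ⟨j, hj⟩ := mem_zpowers_iff.mp h5
      exact mem_zpowers_iff.mpr ⟨(p : ℤ) * j, by rw [zpow_mul, zpow_natCast]; exact hj⟩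
    obtain ⟨j, rfl⟩ := mem_zpowers_iff.mp hyu
    refine ⟨x, C.A_le_M hx, k + j, ?_⟩
    have h5 : d = u ^ k * (u ^ (-k) * d) := by group
    rw [h5, hxy, ← mul_assoc, ((show Commute u x from C.comm_A hu x hx).zpow_left k).eq, mul_assoc,
      ← zpow_add]
  · push Not at hcase
    obtain ⟨⟨u, hu⟩, hug⟩ := C.Y_cyclic.exists_generator
    have hY : YY a m = zpowers u := by
      apply le_antisymm
      · intro v hv
        obtain ⟨k, hk⟩ := mem_zpowers_iff.mp (hug ⟨v, hv⟩)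
        exact mem_zpowers_iff.mpr ⟨k, congrArg Subtype.val hk⟩
      · rw [zpowers_le]; exact hu
    refine ⟨u, (mem_Y.mp hu).1, C.Y_le_R hu, Or.inl hY, ?_⟩
    intro d hd hdR
    obtain ⟨x, hx, y, hy, rfl⟩ := hcase d hd hdR
    rw [hY] at hy
    obtain ⟨j, rfl⟩ := mem_zpowers_iff.mp hy
    exact ⟨x, C.A_le_M hx, j, rfl⟩

variable {u : P} (U : IsU a m p u)
include U

/-- (f11) -/
theorem R_span {w : P} (hw : w ∈ RR a m) : ∃ x ∈ MM a m, ∃ k : ℤ, w = x * u ^ k := by
  obtain ⟨d, j, hd, rfl⟩ := C.gen w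
  have hmR : m ^ j ∈ RR a m := zpow_mem (C.M_le_R C.mM) j
  have hdR : d ∈ RR a m := by
    have h1 := mul_mem hw (inv_mem hmR)
    rwa [mul_inv_cancel_right] at h1
  obtain ⟨x, hx, k, rfl⟩ := U.span d hd hdR
  refine ⟨x * (u ^ k * m ^ j * (u ^ k)⁻¹), mul_mem hx ?_, k, by group⟩
  exact (mem_normalizer_iff.mp (zpow_mem U.uR k) _).mp (zpow_mem C.mM j)

/-- (f12) -/
theorem pow_formula {x : P} (hx : x ∈ MM a m) (k : ℤ) :
    ∃ z' ∈ zpowers z, (x * u ^ k) ^ p = z' * (u ^ k) ^ p := by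
  have hpr : p.Prime := Fact.out
  set t := u ^ k with ht
  have hta : t * a = a * t := ((show Commute u a from U.ua).zpow_left k).eq
  have htR : t ∈ RR a m := zpow_mem U.uR k
  obtain ⟨b, hb⟩ : ∃ b, b = t * x * t⁻¹ * x⁻¹ := ⟨_, rfl⟩
  have hbA : b ∈ A := by rw [hb]; exact C.comm_mem_A hta htR hx
  have hbt : Commute b t := (C.comm_A hta b hbA).symm
  have hzn := C.z_normal
  let φ := QuotientGroup.mk' (zpowers z)
  have h1 : φ x * φ t = (φ b)⁻¹ * (φ t * φ x) := by
    rw [← map_mul, ← map_mul, ← map_inv, ← map_mul]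
    congr 1
    rw [hb]
    group
  have hbx : Commute (φ b) (φ x) := by
    have h2 := C.Omc b (C.M_le (C.A_le_M hbA)) x (C.M_le hx)
    have h3 : φ (b * x * b⁻¹ * x⁻¹) = 1 :=
      (QuotientGroup.eq_one_iff (N := zpowers z) (b * x * b⁻¹ * x⁻¹)).mpr h2
    change φ b * φ x = φ x * φ b
    rw [map_mul, map_mul, map_mul, map_inv, map_inv] at h3
    calc φ b * φ x = (φ b * φ x * (φ b)⁻¹ * (φ x)⁻¹) * (φ x * φ b) := by group
      _ = φ x * φ b := by rw [h3, one_mul]
  have hbt' : Commute (φ b) (φ t) := hbt.map φ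
  have h2 := Cfsg.Agent.Lib.MaxNormalElementary.mul_pow_of_central hpr C.hp h1 hbx.inv_left
    hbt'.inv_left (by rw [inv_pow, ← map_pow, C.Ap b hbA, map_one, inv_one])
  rw [← map_pow φ x, C.Omp x (C.M_le hx), map_one, one_mul, ← map_mul, ← map_pow, ← map_pow] at h2
  refine ⟨(x * t) ^ p * (t ^ p)⁻¹, ?_, by group⟩
  have h3 : φ ((x * t) ^ p * (t ^ p)⁻¹) = 1 := by rw [map_mul, map_inv, h2, mul_inv_cancel]
  exact (QuotientGroup.eq_one_iff (N := zpowers z) ((x * t) ^ p * (t ^ p)⁻¹)).mp h3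

/-- the formula when `u ^ k ∈ Y` -/
theorem pow_formula_Y {x y : P} (hx : x ∈ MM a m) (hy : y ∈ YY a m) : (x * y) ^ p = y ^ p := by
  rw [(C.Y_comm_M hy hx).symm.mul_pow, C.Omp x (C.M_le hx), one_mul]

theorem uY_p : u ^ p ∈ YY a m := by
  rcases U.alt with h | h
  · rw [h]; exact pow_mem (mem_zpowers u) p
  · rw [h]; exact mem_zpowers _

/-- (f13) elements of order `p` of `R` lie in `M` -/
theorem mem_M {w : P} (hw : w ∈ RR a m) (hwp : w ^ p = 1) : w ∈ MM a m := by
  have hpr : p.Prime := Fact.out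
  obtain ⟨x, hx, k, rfl⟩ := C.R_span U hw
  -- it is enough that `u ^ k ∈ Y`
  have key : u ^ k ∈ YY a m → x * u ^ k ∈ MM a m := by
    intro hk
    have h1 := C.pow_formula_Y U hx hk
    rw [hwp] at h1
    have h2 := C.mem_z (mem_Y.mp hk).1 (mem_Y.mp hk).2 h1.symm
    have h3 : zpowers z ≤ MM a m := by rw [zpowers_le]; exact C.z_mem_M
    exact mul_mem hx (h3 h2)
  apply key
  rcases U.alt with hY | hY
  · rw [hY]; exact zpow_mem (mem_zpowers u) k
  · -- `u ^ (k p) ∈ ⟨z⟩`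
    obtain ⟨z', hz', h1⟩ := C.pow_formula U hx k
    rw [hwp] at h1
    have h2 : (u ^ k) ^ p = z'⁻¹ := by
      rw [eq_comm, inv_eq_iff_mul_eq_one]; exact h1.symm
    have h3 : ((u ^ p) ^ k) ^ p = 1 := by
      have h4 : (u ^ p) ^ k = z'⁻¹ := by
        rw [← h2, ← zpow_natCast u p, ← zpow_natCast (u ^ k) p, ← zpow_mul, ← zpow_mul, mul_comm]
      rw [h4, inv_pow]
      obtain ⟨i, rfl⟩ := mem_zpowers_iff.mp hz'
      rw [← zpow_natCast, ← zpow_mul, mul_comm, zpow_mul, zpow_natCast, C.zp, one_zpow, inv_one]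
    have h4 : ((orderOf (u ^ p) : ℕ) : ℤ) ∣ k * p := by
      apply orderOf_dvd_iff_zpow_eq_one.mpr
      rw [zpow_mul, zpow_natCast]; exact h3
    obtain ⟨c, hc⟩ := (IsPGroup.iff_orderOf.mp C.hP (u ^ p))
    have h5 := C.Y2
    rw [show centralizer ({a, m} : Set P) = YY a m from rfl, hY, Nat.card_zpowers, hc] at h5
    have hc2 : 2 ≤ c := (Nat.pow_le_pow_iff_right hpr.one_lt).mp h5
    have h6 : (p : ℤ) ∣ k := by
      have h7 : ((p : ℤ) * p) ∣ k * p := by
        refine dvd_trans ?_ h4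
        rw [hc]
        have : p * p ∣ p ^ c := by rw [← pow_two]; exact pow_dvd_pow p hc2
        exact_mod_cast this
      exact (mul_dvd_mul_iff_right (by exact_mod_cast hpr.ne_zero)).mp h7
    obtain ⟨j, rfl⟩ := h6
    rw [zpow_mul, zpow_natCast]
    exact zpow_mem (C.uY_p U) j

/-- (f14) `M` is normal in `P` -/
theorem R_top : RR a m = ⊤ := by
  have hnil : Group.IsNilpotent P := C.hP.isNilpotent
  by_contra hne
  have h1 : RR a m < normalizer (RR a m : Set P) :=
    Group.normalizerCondition_of_isNilpotent _ (lt_top_iff_ne_top.mpr hne)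
  obtain ⟨g, hg, hgR⟩ := SetLike.exists_of_lt h1
  apply hgR
  have h2 : ∀ h ∈ normalizer (RR a m : Set P), ∀ x ∈ MM a m, h * x * h⁻¹ ∈ MM a m := by
    intro h hh x hx
    apply C.mem_M U
    · exact (mem_normalizer_iff.mp hh x).mp (C.M_le_R hx)
    · rw [conj_pow, C.Omp x (C.M_le hx), mul_one, mul_inv_cancel]
  rw [mem_normalizer_iff]
  intro x
  constructor
  · exact h2 g hg x
  · intro hx
    have h3 := h2 g⁻¹ (inv_mem hg) _ hx
    convert h3 using 1
    group

theorem span_all (w : P) : ∃ x ∈ MM a m, ∃ k : ℤ, w = x * u ^ k :=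
  C.R_span U (by rw [C.R_top U]; exact mem_top w)

theorem conj_M {x : P} (hx : x ∈ MM a m) (g : P) : g * x * g⁻¹ ∈ MM a m := by
  have h1 : g ∈ RR a m := by rw [C.R_top U]; exact mem_top g
  exact (mem_normalizer_iff.mp h1 x).mp hx

/-- (f15) -/
theorem exists_q : ∃ q : ℕ, (∀ x ∈ MM a m, ∀ k : ℤ, (x * u ^ k) ^ q = (u ^ k) ^ q) ∧
    u ^ q ∈ zpowers z ∧ u ^ q ≠ 1 := by
  have hpr : p.Prime := Fact.out
  obtain ⟨c, hc⟩ := (IsPGroup.iff_orderOf.mp C.hP u)
  have hY2 := C.Y2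
  rw [show centralizer ({a, m} : Set P) = YY a m from rfl] at hY2
  rcases U.alt with hY | hY
  · -- `Y = ⟨u⟩`
    rw [hY, Nat.card_zpowers, hc] at hY2
    have hc2 : 2 ≤ c := (Nat.pow_le_pow_iff_right hpr.one_lt).mp hY2
    obtain ⟨e, rfl⟩ : ∃ e, c = e + 2 := ⟨c - 2, by omega⟩
    refine ⟨p ^ (e + 1), ?_, ?_, ?_⟩
    · intro x hx k
      have hk : u ^ k ∈ YY a m := by rw [hY]; exact zpow_mem (mem_zpowers u) k
      rw [pow_succ', pow_mul, C.pow_formula_Y U hx hk, ← pow_mul]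
    · have h1 : u ^ p ^ (e + 1) ∈ YY a m := by rw [hY]; exact pow_mem (mem_zpowers u) _
      refine C.mem_z (mem_Y.mp h1).1 (mem_Y.mp h1).2 ?_
      rw [← pow_mul, ← pow_succ, ← hc, pow_orderOf_eq_one]
    · intro h1
      have h2 := orderOf_dvd_of_pow_eq_one h1
      rw [hc] at h2
      have := (Nat.pow_dvd_pow_iff_le_right hpr.one_lt).mp h2
      omega
  · -- `Y = ⟨u ^ p⟩`
    have h0 : ∃ c', orderOf (u ^ p) = p ^ c' := IsPGroup.iff_orderOf.mp C.hP (u ^ p)
    obtain ⟨c', hc'⟩ := h0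
    rw [hY, Nat.card_zpowers, hc'] at hY2
    have hc2 : 2 ≤ c' := (Nat.pow_le_pow_iff_right hpr.one_lt).mp hY2
    have hcc : c = c' + 1 := by
      have h1 : c ≠ 0 := by
        rintro rfl
        rw [pow_zero, orderOf_eq_one_iff] at hc
        rw [hc, one_pow, orderOf_one] at hc'
        have := Nat.one_lt_pow (n := c') (by omega) hpr.one_lt
        omega
      have h2 := orderOf_pow' u hpr.ne_zero
      rw [hc, hc', Nat.gcd_eq_right (dvd_pow_self p h1)] at h2
      have h3 : p ^ c' * p = p ^ c := by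
        rw [h2]; exact Nat.div_mul_cancel (dvd_pow_self p h1)
      rw [← pow_succ] at h3
      exact (Nat.pow_right_injective hpr.two_le h3).symm
    obtain ⟨e, rfl⟩ : ∃ e, c' = e + 2 := ⟨c' - 2, by omega⟩
    subst hcc
    refine ⟨p ^ (e + 2), ?_, ?_, ?_⟩
    · intro x hx k
      obtain ⟨z', hz', h1⟩ := C.pow_formula U hx k
      have h2 : z' ^ p = 1 := by
        obtain ⟨i, rfl⟩ := mem_zpowers_iff.mp hz'
        rw [← zpow_natCast, ← zpow_mul, mul_comm, zpow_mul, zpow_natCast, C.zp, one_zpow]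
      rw [pow_succ', pow_mul, h1, (C.zz_comm hz' _).mul_pow, pow_succ', pow_mul z', h2, one_pow,
        one_mul, ← pow_mul]
    · have h1 : u ^ p ^ (e + 2) ∈ YY a m := by
        rw [pow_succ', pow_mul]; exact pow_mem (C.uY_p U) _
      refine C.mem_z (mem_Y.mp h1).1 (mem_Y.mp h1).2 ?_
      rw [← pow_mul, ← pow_succ, ← hc, pow_orderOf_eq_one]
    · intro h1
      have h2 := orderOf_dvd_of_pow_eq_one h1
      rw [hc] at h2
      have := (Nat.pow_dvd_pow_iff_le_right hpr.one_lt).mp h2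
      omega

omit U in
/-- **The power homomorphism.** -/
theorem main : ∃ (q : ℕ) (u : P), (∀ v w : P, (v * w) ^ q = v ^ q * w ^ q) ∧
    (∀ w : P, w ^ q ∈ zpowers z) ∧ u ^ q ≠ 1 := by
  obtain ⟨u, U⟩ := C.exists_isU
  obtain ⟨q, h1, h2, h3⟩ := C.exists_q U
  refine ⟨q, u, ?_, ?_, h3⟩
  · intro v w
    obtain ⟨x, hx, k, rfl⟩ := C.span_all U v
    obtain ⟨y, hy, l, rfl⟩ := C.span_all U w
    have h4 : x * u ^ k * (y * u ^ l) = (x * (u ^ k * y * (u ^ k)⁻¹)) * u ^ (k + l) := by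
      rw [zpow_add]; group
    rw [h4, h1 _ (mul_mem hx (C.conj_M U hy _)), h1 x hx, h1 y hy, zpow_add,
      (Commute.zpow_zpow_self u k l).mul_pow]
  · intro w
    obtain ⟨x, hx, k, rfl⟩ := C.span_all U w
    rw [h1 x hx]
    have h4 : (u ^ k) ^ q = (u ^ q) ^ k := by
      rw [← zpow_natCast, ← zpow_natCast, ← zpow_mul, ← zpow_mul, mul_comm]
    rw [h4]
    exact zpow_mem h2 k

end Cfg

end Cfsg.Agent.Omega.Sec.Struct
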