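import Cfsg.Agent.Omega.Sec.Struct

/-!
# `p`-groups of rank 2 containing an extraspecial group with large centralizer: the normalizer of `M`
-/

set_option autoImplicit false
set_option linter.unusedSectionVars false

namespace Cfsg.Agent.Omega.Sec.Struct

open Subgroup Cfsg Cfsg.Agent.Omega.Sec.Basic

variable {P : Type*} [Group P] {p : ℕ}

/-- `M` -/
abbrev MM (a m : P) : Subgroup P := closure ({a, m} : Set P)

/-- `Y = C(M)` -/
abbrev YY (a m : P) : Subgroup P := centralizer ({a, m} : Set P)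

/-- `R = N(M)` -/
abbrev RR (a m : P) : Subgroup P := normalizer (closure ({a, m} : Set P) : Set P)

namespace Cfg

variable {z a m : P} {A Om : Subgroup P}

variable [Fact p.Prime] [Finite P] (C : Cfg p z a m A Om)
include C


theorem zcomm (g : P) : Commute z g := C.zc g

theorem zz_comm {x : P} (hx : x ∈ zpowers z) (g : P) : Commute x g := by
  obtain ⟨k, rfl⟩ := mem_zpowers_iff.mp hx
  exact (C.zcomm g).zpow_left k

/-- (f4) for `t ∈ R ∩ D` and `x ∈ M`, `[t, x] ∈ A` -/
theorem comm_mem_A {t x : P} (ht : t * a = a * t) (htR : t ∈ RR a m) (hx : x ∈ MM a m) :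
    t * x * t⁻¹ * x⁻¹ ∈ A := by
  have h1 : t * x * t⁻¹ * x⁻¹ ∈ MM a m := mul_mem ((mem_normalizer_iff.mp htR x).mp hx) (inv_mem hx)
  refine C.mem_A ?_ (C.Omp _ (C.M_le h1))
  have h2 : t⁻¹ * a = a * t⁻¹ := ((show Commute t a from ht).inv_left).eq
  have h3 := C.conj_D h2 x
  calc t * x * t⁻¹ * x⁻¹ * a = t * ((x * t⁻¹ * x⁻¹) * a) := by group
    _ = t * (a * (x * t⁻¹ * x⁻¹)) := by rw [h3]
    _ = (t * a) * (x * t⁻¹ * x⁻¹) := by group
    _ = (a * t) * (x * t⁻¹ * x⁻¹) := by rw [ht]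
    _ = a * (t * x * t⁻¹ * x⁻¹) := by group

omit C in
/-- conjugation by powers -/
theorem pow_swap {d b x : P} (h : d * x = b * (x * d)) (hbd : Commute b d) (n : ℤ) :
    d ^ n * x = b ^ n * (x * d ^ n) := by
  have h3 : MulAut.conj x⁻¹ (b⁻¹ * d) = d := by
    rw [MulAut.conj_apply, inv_inv]
    calc x⁻¹ * (b⁻¹ * d) * x = x⁻¹ * b⁻¹ * (d * x) := by group
      _ = x⁻¹ * b⁻¹ * (b * (x * d)) := by rw [h]
      _ = d := by group
  have h4 := map_zpow (MulAut.conj x⁻¹) (b⁻¹ * d) n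
  rw [h3, hbd.inv_left.mul_zpow, MulAut.conj_apply, inv_inv] at h4
  calc d ^ n * x = b ^ n * (x * (x⁻¹ * (b⁻¹ ^ n * d ^ n) * x)) := by
        rw [inv_zpow]; group
    _ = b ^ n * (x * d ^ n) := by rw [h4]

/-- (f5) -/
theorem pow_mem_Y {d b : P} (hd : d * a = a * d) (h : d * m = b * (m * d)) (hb : b ∈ A) : d ^ p ∈ YY a m := by
  have h1 := pow_swap h (C.comm_A hd b hb).symm (p : ℤ)
  rw [zpow_natCast, zpow_natCast, C.Ap b hb, one_mul] at h1
  exact mem_Y.mpr ⟨((show Commute d a from hd).pow_left p).eq, h1⟩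

theorem swap_of_normalizer {d : P} (hd : d * a = a * d) (hR : d ∈ RR a m) :
    ∃ b ∈ A, d * m = b * (m * d) :=
  ⟨d * m * d⁻¹ * m⁻¹, C.comm_mem_A hd hR (subset_closure (by simp)), by group⟩

/-- `R` acts on `Y` -/
theorem conj_Y {d y : P} (hR : d ∈ RR a m) (hy : y ∈ YY a m) : d * y * d⁻¹ ∈ YY a m := by
  have h1 : ∀ x ∈ MM a m, Commute y x := by
    intro x hx
    have h2 : MM a m ≤ centralizer ({y} : Set P) := by
      rw [closure_le]
      rintro w (rfl | hw)
      · rw [SetLike.mem_coe, mem_centralizer_singleton_iff]; exact (mem_Y.mp hy).1.symm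
      · rw [Set.mem_singleton_iff.mp hw, SetLike.mem_coe, mem_centralizer_singleton_iff]
        exact (mem_Y.mp hy).2.symm
    exact (mem_centralizer_singleton_iff.mp (h2 hx)).symm
  have h3 : ∀ x ∈ MM a m, (d * y * d⁻¹) * x = x * (d * y * d⁻¹) := by
    intro x hx
    have h4 : d⁻¹ * x * d ∈ MM a m := by
      have := (mem_normalizer_iff.mp (inv_mem hR) x).mp hx
      rwa [inv_inv] at this
    have h5 := (h1 _ h4).eq
    calc (d * y * d⁻¹) * x = d * (y * (d⁻¹ * x * d)) * d⁻¹ := by group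
      _ = d * ((d⁻¹ * x * d) * y) * d⁻¹ := by rw [h5]
      _ = x * (d * y * d⁻¹) := by group
  exact mem_Y.mpr ⟨h3 a (subset_closure (by simp)), h3 m (subset_closure (by simp))⟩

/-- elements of `Y` commute with `M` -/
theorem Y_comm_M {x y : P} (hy : y ∈ YY a m) (hx : x ∈ MM a m) : Commute y x := by
  have h2 : MM a m ≤ centralizer ({y} : Set P) := by
    rw [closure_le]
    rintro w (rfl | hw)
    · rw [SetLike.mem_coe, mem_centralizer_singleton_iff]; exact (mem_Y.mp hy).1.symm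
    · rw [Set.mem_singleton_iff.mp hw, SetLike.mem_coe, mem_centralizer_singleton_iff]
      exact (mem_Y.mp hy).2.symm
  exact (mem_centralizer_singleton_iff.mp (h2 hx)).symm

theorem Y_le_R {y : P} (hy : y ∈ YY a m) : y ∈ RR a m := by
  rw [mem_normalizer_iff]
  intro x
  constructor
  · intro hx
    rwa [(C.Y_comm_M hy hx).eq, mul_inv_cancel_right]
  · intro hx
    have h1 := C.Y_comm_M (inv_mem hy) hx
    have h2 : y⁻¹ * (y * x * y⁻¹) * y = x := by group
    have h3 : y⁻¹ * (y * x * y⁻¹) * y = y * x * y⁻¹ := by rw [h1.eq]; group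
    rw [← h2, h3]; exact hx

/-- (f8) -/
theorem exists_gen {s : P} (hs : s * a = a * s) (hsR : s ∈ RR a m)
    (hn : ¬ ∃ x ∈ A, ∃ y ∈ YY a m, s = x * y) :
    ∃ u : P, u * a = a * u ∧ u ∈ RR a m ∧ YY a m = zpowers (u ^ p) := by
  have hpr : p.Prime := Fact.out
  obtain ⟨b, hb, hbs⟩ := C.swap_of_normalizer hs hsR
  have hsp : s ^ p ∈ YY a m := C.pow_mem_Y hs hbs hb
  set W : Subgroup P := YY a m ⊔ zpowers s with hW
  have hYW : YY a m ≤ W := le_sup_left
  have hsW : s ∈ W := (le_sup_right : zpowers s ≤ W) (mem_zpowers s)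
  have hWR : W ≤ RR a m := sup_le (fun y hy => C.Y_le_R hy) (by rw [zpowers_le]; exact hsR)
  have hWD : ∀ w ∈ W, w * a = a * w := by
    have h1 : W ≤ centralizer ({a} : Set P) := sup_le
      (fun y hy => mem_centralizer_singleton_iff.mpr (mem_Y.mp hy).1)
      (by rw [zpowers_le]; exact mem_centralizer_singleton_iff.mpr hs)
    exact fun w hw => mem_centralizer_singleton_iff.mp (h1 hw)
  have hsY : s ∉ YY a m := fun h => hn ⟨1, one_mem _, s, h, (one_mul s).symm⟩
  -- `Y` is normal in `W`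
  have hYn : ((YY a m).subgroupOf W).Normal := by
    constructor
    intro y hy w
    rw [mem_subgroupOf] at hy ⊢
    exact C.conj_Y (hWR w.2) hy
  -- `W / Y` is generated by `s`
  have hsN : zpowers s ≤ normalizer ((YY a m : Subgroup P) : Set P) := by
    rw [zpowers_le, mem_normalizer_iff]
    intro y
    constructor
    · intro hy; exact C.conj_Y hsR hy
    · intro hy
      have h1 := C.conj_Y (inv_mem hsR) hy
      convert h1 using 1
      group
  have hgen : ∀ w ∈ W, ∃ y ∈ YY a m, ∃ k : ℤ, w = y * s ^ k := by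
    intro w hw
    have h3 : w ∈ ((YY a m ⊔ zpowers s : Subgroup P) : Set P) := hw
    rw [coe_mul_of_right_le_normalizer_left _ _ hsN] at h3
    obtain ⟨y, hy, t, ht, rfl⟩ := h3
    obtain ⟨k, rfl⟩ := mem_zpowers_iff.mp ht
    exact ⟨y, hy, k, rfl⟩
  have hspk : ∀ k : ℤ, s ^ ((p : ℤ) * k) ∈ YY a m := by
    intro k
    rw [zpow_mul, zpow_natCast]
    exact zpow_mem hsp k
  -- the index is `p`
  have hidx : ((YY a m).subgroupOf W).index = p := by
    have h1 : Nat.card (W ⧸ (YY a m).subgroupOf W) = orderOf (QuotientGroup.mk' ((YY a m).subgroupOf W) ⟨s, hsW⟩) := by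
      rw [← Nat.card_zpowers]
      have h2 : zpowers (QuotientGroup.mk' ((YY a m).subgroupOf W) ⟨s, hsW⟩) = ⊤ := by
        rw [eq_top_iff]
        intro x _
        obtain ⟨⟨w, hw⟩, rfl⟩ := QuotientGroup.mk'_surjective _ x
        obtain ⟨y, hy, k, hk⟩ := hgen w hw
        rw [mem_zpowers_iff]
        refine ⟨k, ?_⟩
        rw [← map_zpow]
        symm
        rw [QuotientGroup.mk'_eq_mk']
        refine ⟨⟨s ^ (-k) * y⁻¹ * s ^ k, ?_⟩, ?_, ?_⟩
        · exact mul_mem (mul_mem (zpow_mem hsW _) (inv_mem (hYW hy))) (zpow_mem hsW _)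
        · rw [mem_subgroupOf]
          have h3 : s ^ (-k) * y⁻¹ * (s ^ (-k))⁻¹ ∈ YY a m := C.conj_Y (zpow_mem hsR _) (inv_mem hy)
          rwa [zpow_neg, inv_inv, ← zpow_neg] at h3
        · apply Subtype.ext
          change w * (s ^ (-k) * y⁻¹ * s ^ k) = s ^ k
          rw [hk]
          group
      rw [h2, card_top]
    rw [index_eq_card, h1]
    apply orderOf_eq_prime
    · rw [← map_pow]
      exact (QuotientGroup.eq_one_iff _).mpr (by rw [mem_subgroupOf]; exact hsp)
    · intro h2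
      have h3 := (QuotientGroup.eq_one_iff (N := (YY a m).subgroupOf W) ⟨s, hsW⟩).mp h2
      exact hsY (mem_subgroupOf.mp h3)
  have hWp : IsPGroup p W := C.hP.to_subgroup W
  have hYc := C.Y_cyclic
  have hYc' : IsCyclic ((YY a m).subgroupOf W) :=
    isCyclic_of_injective (subgroupOfEquivOfLe hYW).toMonoidHom (subgroupOfEquivOfLe hYW).injective
  have hcop : ∀ k : ℤ, ¬ (p : ℤ) ∣ k → IsCoprime k p := fun k hk => by
    exact ((Nat.prime_iff_prime_int.mp hpr).coprime_iff_not_dvd.mpr hk).symm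
  by_cases hWc : IsCyclic W
  · -- `W` is cyclic
    obtain ⟨⟨w, hw⟩, hwg⟩ := hWc.exists_generator
    refine ⟨w, hWD w hw, hWR hw, ?_⟩
    have hWw : W = zpowers w := by
      apply le_antisymm
      · intro v hv
        obtain ⟨k, hk⟩ := mem_zpowers_iff.mp (hwg ⟨v, hv⟩)
        exact mem_zpowers_iff.mpr ⟨k, congrArg Subtype.val hk⟩
      · rw [zpowers_le]; exact hw
    have hwp : w ^ p ∈ YY a m := by
      have h1 : QuotientGroup.mk' ((YY a m).subgroupOf W) ⟨w, hw⟩ ^ Nat.card (W ⧸ (YY a m).subgroupOf W) = 1 :=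
        pow_card_eq_one'
      rw [← index_eq_card, hidx, ← map_pow] at h1
      have h3 := (QuotientGroup.eq_one_iff (N := (YY a m).subgroupOf W) ((⟨w, hw⟩ : ↥W) ^ p)).mp h1
      exact mem_subgroupOf.mp h3
    symm
    apply eq_of_le_of_card_ge
    · rwa [zpowers_le]
    · have h2 : Nat.card ((YY a m).subgroupOf W) * p = Nat.card W := by
        rw [← hidx]; exact card_mul_index _
      rw [Nat.card_congr (subgroupOfEquivOfLe hYW).toEquiv, hWw, Nat.card_zpowers] at h2
      rw [Nat.card_zpowers, orderOf_pow' w hpr.ne_zero, ← h2,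
        Nat.gcd_eq_right (Dvd.intro_left _ rfl), Nat.mul_div_cancel _ hpr.pos]
  · -- `W` is not cyclic
    exfalso
    obtain ⟨hT, hTc⟩ := Cfsg.Agent.S0127.result C.hp hWp hWc ((YY a m).subgroupOf W) hYc' hidx
    -- an element `t` outside `⟨z⟩`
    obtain ⟨t, ht, htz⟩ : ∃ t ∈ closure {x : W | x ^ p = 1}, (t : P) ∉ zpowers z := by
      by_contra hcon
      push Not at hcon
      have h1 : (closure {x : W | x ^ p = 1}).map W.subtype ≤ zpowers z := by
        rintro _ ⟨t, ht, rfl⟩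
        exact hcon t ht
      have h2 := Nat.card_le_card_of_injective _ (inclusion_injective h1)
      rw [card_map_of_injective (subtype_injective _), hTc, Nat.card_zpowers, C.oz] at h2
      have h4 := hpr.two_le
      nlinarith
    have htp : (t : P) ^ p = 1 := congrArg Subtype.val (hT.2 t ht)
    have htA : (t : P) ∈ A := C.mem_A (hWD t t.2) htp
    obtain ⟨y, hy, k, hk⟩ := hgen t t.2
    have hkp : ¬ (p : ℤ) ∣ k := by
      rintro ⟨j, rfl⟩
      apply htz
      have h1 : (t : P) ∈ YY a m := by rw [hk]; exact mul_mem hy (hspk j)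
      exact C.mem_z (mem_Y.mp h1).1 (mem_Y.mp h1).2 htp
    obtain ⟨i, j, hij⟩ := hcop k hkp
    apply hn
    have hyt : Commute y (t : P) := C.comm_A (mem_Y.mp hy).1 _ htA
    have h1 : s ^ k = y⁻¹ * t := by rw [hk]; group
    have h2 : s = (t : P) ^ i * ((y⁻¹) ^ i * s ^ ((p : ℤ) * j)) := by
      have h3 : s ^ (k * i) = (t : P) ^ i * (y⁻¹) ^ i := by
        rw [zpow_mul, h1, (hyt.inv_left).mul_zpow, ((hyt.inv_left).zpow_zpow i i).eq]
      calc s = s ^ (i * k + j * p) := by rw [hij, zpow_one]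
        _ = s ^ (k * i) * s ^ ((p : ℤ) * j) := by rw [zpow_add]; congr 2 <;> ring
        _ = _ := by rw [h3, mul_assoc]
    exact ⟨_, A.zpow_mem htA i, _, mul_mem (zpow_mem (inv_mem hy) i) (hspk j), h2⟩

end Cfg

end Cfsg.Agent.Omega.Sec.Struct
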